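import Cfsg.Agent.Lib.Sporadic.J4Index.Index

/-!
# Comparing words of the presented fourth Janko group in the representation of degree 112
-/

set_option autoImplicit false
set_option maxRecDepth 100000

namespace CfsgLib.Sporadic.J4Aut

open BitMatrix Cfsg Cfsg.Spor CfsgLib.Sporadic.CosetCert.J4M24 CfsgLib.Sporadic.CosetCert.J4Index
  CfsgLib.Sporadic.J4Rep

attribute [local irreducible] BitMatrix.mulP BitMatrix.ok BitMatrix.one BitMatrix.dec mX mY mYi mT

/-- The letters `x, y, y⁻¹, t`. -/
noncomputable def letG (k : ℕ) : J4P := [gX, gY, gY⁻¹, gT].getD k 1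

/-- The value of a word. -/
noncomputable def wev (L : List ℕ) : J4P := (L.map letG).prod

theorem wev_nil : wev [] = 1 := rfl

theorem wev_append (L M : List ℕ) : wev (L ++ M) = wev L * wev M := by simp [wev]

theorem wev_cons (k : ℕ) (L : List ℕ) : wev (k :: L) = letG k * wev L := by simp [wev]

/-- The letter of the inverse. -/
def invL (k : ℕ) : ℕ := [0, 2, 1, 3].getD k k

/-- The inverse word. -/
def winv (L : List ℕ) : List ℕ := (L.map invL).reverse

theorem letG_inv (k : ℕ) : letG (invL k) = (letG k)⁻¹ := by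
  obtain ⟨hx, -, ht, -⟩ := rels
  have ix : gX⁻¹ = gX := inv_eq_of_mul_eq_one_right (by rw [← pow_two]; exact hx)
  match k with
  | 0 => simp [letG, invL, ix]
  | 1 => simp [letG, invL]
  | 2 => simp [letG, invL]
  | 3 => simp [letG, invL, gT_inv]
  | k + 4 => simp [letG, invL]

theorem wev_winv (L : List ℕ) : wev (winv L) = (wev L)⁻¹ := by
  induction L with
  | nil => simp [wev, winv]
  | cons a t ih =>
    rw [winv, List.map_cons, List.reverse_cons, wev_append, ← winv, ih, wev_cons a t, mul_inv_rev,
      wev_cons, wev_nil, mul_one, letG_inv]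

theorem wev_power (L : List ℕ) (n : ℕ) : wev (List.flatten (List.replicate n L)) = wev L ^ n := by
  induction n with
  | zero => simp [wev_nil]
  | succ n ih => rw [List.replicate_succ, List.flatten_cons, wev_append, ih, pow_succ']

theorem wev_wordG : ∀ L : List ℕ, (∀ a ∈ L, a < 3) → wev L = wordG L := by
  intro L
  induction L with
  | nil => intro _; rfl
  | cons a t ih =>
    intro h
    rw [wev_cons, ih fun b hb => h b (List.mem_cons_of_mem _ hb), wordG]
    have ha := h a List.mem_cons_self
    congr 1
    interval_cases a <;> rfl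

/-- A word in `x, y` as a permutation number. -/
theorem pr_wev {L : List ℕ} (h : ∀ a ∈ L, a < 3) : PR (wordP L) (wev L) := by
  rw [wev_wordG L h]
  exact pr_word L

theorem wev_mem_XY {L : List ℕ} (h : ∀ a ∈ L, a < 3) : wev L ∈ XY := by
  rw [wev]
  refine Subgroup.list_prod_mem _ fun g hg => ?_
  obtain ⟨k, hk, rfl⟩ := List.mem_map.1 hg
  have hk3 := h k hk
  interval_cases k
  · exact Subgroup.subset_closure (Or.inl rfl)
  · exact Subgroup.subset_closure (Or.inr rfl)
  · exact inv_mem (Subgroup.subset_closure (Or.inr rfl))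

/-- Words with the same permutation have the same value. -/
theorem wev_eq_of_perm {L M : List ℕ} (hL : ∀ a ∈ L, a < 3) (hM : ∀ a ∈ M, a < 3)
    (h : wordP L = wordP M) : wev L = wev M := by
  rw [← (pr_wev hL).el_eq, h, (pr_wev hM).el_eq]

theorem rep_letG (k : ℕ) : (rep (letG k)).val = dec 112 (lett k) := by
  match k with
  | 0 => simp [letG, gX, rep, PresentedGroup.toGroup.of, lett, uJ]
  | 1 => simp [letG, gY, rep, PresentedGroup.toGroup.of, lett, uJ]
  | 2 => simp [letG, gY, rep, PresentedGroup.toGroup.of, lett, uJ]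
  | 3 => simp [letG, gT, rep, PresentedGroup.toGroup.of, lett, uJ]
  | k + 4 => simp [letG, lett, dec_one]

theorem rep_wev (L : List ℕ) : (rep (wev L)).val = ((L.map lett).map (dec 112)).prod := by
  induction L with
  | nil => simp [wev_nil]
  | cons a t ih => rw [wev_cons, map_mul, Units.val_mul, rep_letG, ih]; simp

/-- The packed product of a list of matrices. -/
noncomputable def packProd (L : List (List ℕ)) : ℕ := forced (prodP 112 L) (pack 112 (BitMatrix.one 112))

/-- Two products of matrices agree. -/
noncomputable def sameP (L M : List (List ℕ)) : Bool := Nat.beq (packProd L) (packProd M)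

theorem packProd_spec {L : List (List ℕ)} (hL : ∀ B ∈ L, ok 112 B = true) :
    BitMatrix.Good 112 (packProd L) (L.map (dec 112)).prod := by
  have h0 : BitMatrix.Good 112 (pack 112 (BitMatrix.one 112)) 1 :=
    ⟨BitMatrix.one 112, (ok_iff.1 ok_one).1, one_lt, rfl, dec_one⟩
  have := BitMatrix.Good.prodP L hL h0
  rw [one_mul] at this
  rw [packProd, forced_eq]
  exact this

theorem good_unique {P : ℕ} {M M' : M112} (h : BitMatrix.Good 112 P M) (h' : BitMatrix.Good 112 P M') : M = M' := by
  obtain ⟨A, hA, hA', e, rfl⟩ := h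
  obtain ⟨B, hB, hB', e', rfl⟩ := h'
  have h1 := unpack_pack A hA'
  have h2 := unpack_pack B hB'
  rw [hA, ← e] at h1
  rw [hB, ← e'] at h2
  rw [h1.symm.trans h2]

theorem good_inj {P Q : ℕ} {M : M112} (h : BitMatrix.Good 112 P M) (h' : BitMatrix.Good 112 Q M) : P = Q := by
  obtain ⟨A, hA, hA', rfl, eA⟩ := h
  obtain ⟨B, hB, hB', rfl, eB⟩ := h'
  congr 1
  refine List.ext_getElem (hA.trans hB.symm) fun i hi hi' => ?_
  refine Nat.eq_of_testBit_eq fun j => ?_
  rcases Nat.lt_or_ge j 112 with hj | hj
  · have e := congrFun (congrFun (eA.trans eB.symm) ⟨i, hA ▸ hi⟩) ⟨j, hj⟩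
    simp only [dec, List.getD_eq_getElem _ _ hi, List.getD_eq_getElem _ _ hi'] at e
    cases ha : A[i].testBit j <;> cases hb : B[i].testBit j <;> simp_all
  · have hp : 2 ^ 112 ≤ 2 ^ j := Nat.pow_le_pow_right (by norm_num) hj
    rw [Nat.testBit_lt_two_pow (lt_of_lt_of_le (hA' _ (List.getElem_mem hi)) hp),
      Nat.testBit_lt_two_pow (lt_of_lt_of_le (hB' _ (List.getElem_mem hi')) hp)]

theorem sameP_iff {L M : List (List ℕ)} (hL : ∀ B ∈ L, ok 112 B = true) (hM : ∀ B ∈ M, ok 112 B = true) :
    sameP L M = true ↔ (L.map (dec 112)).prod = (M.map (dec 112)).prod := by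
  constructor
  · intro h
    have e : packProd L = packProd M := Nat.eq_of_beq_eq_true h
    exact good_unique (packProd_spec hL) (e ▸ packProd_spec hM)
  · intro h
    have e := good_inj (packProd_spec hL) (h ▸ packProd_spec hM)
    show Nat.beq (packProd L) (packProd M) = true
    rw [e, Nat.beq_refl]

/-- The matrix `A` belongs to the element `g`. -/
def IsMat (A : List ℕ) (g : J4P) : Prop := ok 112 A = true ∧ (rep g).val = dec 112 A

theorem isMat_let (k : ℕ) : IsMat (lett k) (letG k) := ⟨ok_lett k, rep_letG k⟩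

theorem rep_prod {l : List (List ℕ × J4P)} (h : ∀ p ∈ l, IsMat p.1 p.2) :
    (rep (l.map Prod.snd).prod).val = ((l.map Prod.fst).map (dec 112)).prod := by
  induction l with
  | nil => simp
  | cons p t ih =>
    rw [List.map_cons, List.prod_cons, map_mul, Units.val_mul, ih fun q hq => h q (List.mem_cons_of_mem _ hq),
      (h p List.mem_cons_self).2]
    simp

/-- Lists of matrices with equal products give equal elements, and conversely. -/
theorem eq_iff_sameP (hinj : Function.Injective rep) {l m : List (List ℕ × J4P)}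
    (hl : ∀ p ∈ l, IsMat p.1 p.2) (hm : ∀ p ∈ m, IsMat p.1 p.2) :
    sameP (l.map Prod.fst) (m.map Prod.fst) = true ↔ (l.map Prod.snd).prod = (m.map Prod.snd).prod := by
  have okl : ∀ {l : List (List ℕ × J4P)}, (∀ p ∈ l, IsMat p.1 p.2) → ∀ B ∈ l.map Prod.fst, ok 112 B = true := by
    intro l h B hB
    obtain ⟨p, hp, rfl⟩ := List.mem_map.1 hB
    exact (h p hp).1
  rw [sameP_iff (okl hl) (okl hm), ← rep_prod hl, ← rep_prod hm]
  exact ⟨fun h => hinj (Units.ext h), fun h => by rw [h]⟩

/-- Words with equal matrices. -/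
noncomputable def sameW (L M : List ℕ) : Bool := sameP (L.map lett) (M.map lett)

theorem sameW_iff (hinj : Function.Injective rep) (L M : List ℕ) : sameW L M = true ↔ wev L = wev M := by
  have h := eq_iff_sameP hinj (l := L.map fun k => (lett k, letG k)) (m := M.map fun k => (lett k, letG k))
    (by intro p hp; obtain ⟨k, -, rfl⟩ := List.mem_map.1 hp; exact isMat_let k)
    (by intro p hp; obtain ⟨k, -, rfl⟩ := List.mem_map.1 hp; exact isMat_let k)
  simpa [sameW, wev, List.map_map, Function.comp_def] using h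

theorem wev_eq (hinj : Function.Injective rep) {L M : List ℕ} (h : sameW L M = true) : wev L = wev M :=
  (sameW_iff hinj L M).1 h

/-- A matrix given as the product of a word. -/
theorem isMat_word {A : List ℕ} {L : List ℕ} (hA : ok 112 A = true) (h : sameP [A] (L.map lett) = true) :
    IsMat A (wev L) := by
  refine ⟨hA, ?_⟩
  have := (sameP_iff (by simpa using hA) (by
    intro B hB; obtain ⟨k, -, rfl⟩ := List.mem_map.1 hB; exact ok_lett k)).1 h
  rw [rep_wev]
  simpa using this.symm

theorem rep_injective (hs : IsSimpleGroup J4P) : Function.Injective rep := by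
  rw [← MonoidHom.ker_eq_bot_iff]
  exact (rep.normal_ker.eq_bot_or_eq_top).resolve_right fun h =>
    rep_x_ne_one (MonoidHom.mem_ker.1 (h ▸ Subgroup.mem_top _))

end CfsgLib.Sporadic.J4Aut
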