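import Cfsg.Agent.Lib.Sporadic.J4Aut.Eval

/-!
# The subgroup generated by `x, y` is perfect with trivial multiplier
-/

set_option autoImplicit false
set_option maxRecDepth 100000

namespace CfsgLib.Sporadic.J4Aut

open Cfsg Cfsg.Spor CfsgLib.Sporadic.CosetCert.J4M24 CfsgLib.Sporadic.CosetCert.J4Index
  CfsgLib.SmallGroups.M24Group CfsgLib.Sporadic.MathieuMultiplier
open scoped commutatorElement

theorem pairs_map : pairs.map (MonoidHom.fst J4P M24) = XY := by
  rw [pairs, MonoidHom.map_closure]
  congr 1
  ext g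
  constructor
  · rintro ⟨_, ⟨k, hk, rfl⟩, rfl⟩
    have hk' : k = 0 ∨ k = 1 := by have : k < 2 := hk; omega
    rcases hk' with rfl | rfl
    · exact Or.inl rfl
    · exact Or.inr rfl
  · rintro (rfl | rfl)
    · exact ⟨sBoth 0, ⟨0, by norm_num, rfl⟩, rfl⟩
    · exact ⟨sBoth 1, ⟨1, by norm_num, rfl⟩, rfl⟩

theorem nonempty_iso : Nonempty (M24 ≃* XY) := by
  let f : pairs →* J4P := (MonoidHom.fst J4P M24).comp pairs.subtype
  have hinj : Function.Injective f := (injective_iff_map_eq_one _).2 fun z hz => by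
    have h1 : (z : J4P × M24).1 = 1 := hz
    have h2 := pairs_rep z (by rw [h1, map_one])
    exact Subtype.ext (Prod.ext h1 h2)
  have hr : f.range = XY := by rw [MonoidHom.range_comp, Subgroup.range_subtype, pairs_map]
  exact ⟨((MulEquiv.ofBijective ((MonoidHom.snd J4P M24).comp pairs.subtype) pairs_bij).symm.trans
    (MonoidHom.ofInjective hinj)).trans (MulEquiv.subgroupCongr hr)⟩

theorem multiplier_XY : Cfsg.HasCyclicSchurMultiplier XY 1 := by
  obtain ⟨e⟩ := nonempty_iso
  have : Finite M24 := Nat.finite_of_card_ne_zero (by rw [card_M24]; norm_num)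
  exact Schur.Basic.hasSchurMultiplier_of_mulEquiv e multiplier_M24

theorem isSimple_XY : IsSimpleGroup XY := by
  obtain ⟨e⟩ := nonempty_iso
  have : IsSimpleGroup M24 := CfsgLib.SmallGroups.MathieuSimple.isSimple_M24
  exact e.symm.isSimpleGroup

theorem not_commute : ¬ Commute gX gY := by
  intro h
  have hne : wordP [0, 1] ≠ wordP [1, 0] := by decide +kernel
  have h1 : wordG [0, 1] = wordG [1, 0] := by simpa [wordG] using h.eq
  have hp : ∀ i < 24, OutCert.lk 5 (wordP [0, 1]) i = OutCert.lk 5 (wordP [1, 0]) i := fun i hi =>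
    el_inj (good_word _) (good_word _) (by rw [el_word, el_word, h1]) hi
  exact absurd hp (by decide +kernel)

theorem commutator_XY : commutator XY = ⊤ := by
  have := isSimple_XY
  refine ((inferInstance : (commutator XY).Normal).eq_bot_or_eq_top).resolve_left fun h => not_commute ?_
  have hx : gX ∈ XY := Subgroup.subset_closure (Or.inl rfl)
  have hy : gY ∈ XY := Subgroup.subset_closure (Or.inr rfl)
  have hm := Subgroup.commutator_mem_commutator (Subgroup.mem_top (⟨gX, hx⟩ : XY)) (Subgroup.mem_top ⟨gY, hy⟩)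
  rw [← commutator_def, h, Subgroup.mem_bot, commutatorElement_eq_one_iff_mul_comm] at hm
  exact congrArg Subtype.val hm

end CfsgLib.Sporadic.J4Aut
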