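import Cfsg.Agent.Lib.Sporadic.J4Aut.Data
import Cfsg.Agent.Lib.Sporadic.J4Aut.Eval

/-!
# Kernel checks on the basis of the normal subgroup
-/

set_option autoImplicit false
set_option maxRecDepth 100000

namespace CfsgLib.Sporadic.J4Aut

open CfsgLib.Sporadic.CosetCert.J4Index

/-- The word of `u`. -/
def uW : List ℕ := (List.replicate 3 ([1] ++ winv wU ++ [3] ++ wU)).flatten

/-- The word of a basis element. -/
def bW (i : ℕ) : List ℕ := winv (basM.getD i []) ++ uW ++ basM.getD i []

/-- The word of a vector, on the first elements of the basis. -/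
def cW (c : ℕ) : ℕ → List ℕ
  | 0 => []
  | k + 1 => cW c k ++ if c.testBit k then bW k else []

theorem bas_sq : ∀ i < 11, sameW (bW i ++ bW i) [] = true := by decide +kernel

theorem bas_comm : ∀ i < 11, ∀ j < i, sameW (bW i ++ bW j) (bW j ++ bW i) = true := by decide +kernel

theorem bas_x : ∀ i < 11, sameW (0 :: bW i ++ [0]) (cW (actX.getD i 0) 11) = true := by decide +kernel

theorem bas_y : ∀ i < 11, sameW (1 :: bW i ++ [2]) (cW (actY.getD i 0) 11) = true := by decide +kernel

theorem bas_yi : ∀ i < 11, sameW (2 :: bW i ++ [1]) (cW (actYi.getD i 0) 11) = true := by decide +kernel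

theorem bas_u : sameW uW (cW uCode 11) = true := by decide +kernel

end CfsgLib.Sporadic.J4Aut
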