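import Cfsg.Agent.Lib.Sporadic.J4Aut.XYGroup
import Cfsg.Agent.Lib.SmallGroups.MathieuSets

/-!
# Centralisers inside the group of `x, y` from permutation tables

A permutation commuting with given ones is determined by its values at a few points; the tables which do not
preserve the code are excluded.
-/

set_option autoImplicit false
set_option maxRecDepth 100000

namespace CfsgLib.Sporadic.J4Aut

open CfsgLib.Sporadic.OutCert (lk allF allF_iff)
open Cfsg Cfsg.Spor CfsgLib.Sporadic.CosetCert.J4M24 CfsgLib.Sporadic.CosetCert.J4Index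
  CfsgLib.SmallGroups.Golay CfsgLib.SmallGroups.M24Group

attribute [local irreducible] pm idP lk wordP

theorem exists_word {m : J4P} (hm : m ∈ XY) : ∃ L : List ℕ, (∀ a ∈ L, a < 3) ∧ wev L = m := by
  induction hm using Subgroup.closure_induction with
  | mem a ha =>
    rcases ha with rfl | rfl
    · exact ⟨[0], by simp, by simp [wev, letG]⟩
    · exact ⟨[1], by simp, by simp [wev, letG]⟩
  | one => exact ⟨[], by simp, rfl⟩
  | mul a b _ _ iha ihb =>
    obtain ⟨L, hL, rfl⟩ := iha
    obtain ⟨M, hM, rfl⟩ := ihb
    exact ⟨L ++ M, fun c hc => (List.mem_append.1 hc).elim (hL c) (hM c), wev_append L M⟩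
  | inv a _ iha =>
    obtain ⟨L, hL, rfl⟩ := iha
    refine ⟨winv L, fun c hc => ?_, wev_winv L⟩
    rw [winv, List.mem_reverse, List.mem_map] at hc
    obtain ⟨k, hk, rfl⟩ := hc
    have := hL k hk
    interval_cases k <;> decide

/-- Apply a list of generators to a point. -/
noncomputable def runSeq (gens : List ℕ) (s : List ℕ) (v : ℕ) : ℕ :=
  s.foldl (fun j g => lk 5 (gens.getD g idP) j) v

/-- The image of a mask. -/
def imgMask (T : List ℕ) (w : ℕ) : ℕ :=
  Nat.ofBits fun i : Fin 24 => w.testBit (T.getD i 24)

/-- A candidate table is the table of an allowed element or cannot occur. -/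
noncomputable def tableOK (gens allowed : List ℕ) (T : List ℕ) : Bool :=
  (!((List.range gens.length).all fun g => allF (fun i =>
      Nat.beq (lk 5 (gens.getD g idP) (T.getD i 24)) (T.getD (lk 5 (gens.getD g idP) i) 24)) 24)) ||
    (!(allF (fun i => allF (fun j => Nat.beq i j || !Nat.beq (T.getD i 24) (T.getD j 24)) 24) 24) ||
    (allowed.any (fun a => allF (fun i => Nat.beq (T.getD i 24) (lk 5 a i)) 24) ||
      !((List.range 12).all fun j => isCW (imgMask T (bas j)))))

/-- The table determined by the values at the base. -/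
noncomputable def tableOf (gens : List ℕ) (orb : List (ℕ × List ℕ)) (v : List ℕ) : List ℕ :=
  (List.range 24).map fun i => runSeq gens (orb.getD i (0, [])).2 (v.getD (orb.getD i (0, [])).1 0)

/-- The value is fixed by all generators fixing the point. -/
noncomputable def compat (gens : List ℕ) (b v : ℕ) : Bool :=
  (List.range gens.length).all fun g =>
    !Nat.beq (lk 5 (gens.getD g idP) b) b || Nat.beq (lk 5 (gens.getD g idP) v) v

/-- All choices of values at the base. -/
noncomputable def choices (gens : List ℕ) : List ℕ → List (List ℕ)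
  | [] => [[]]
  | b :: r => ((List.range 24).filter (compat gens b)).flatMap fun a => (choices gens r).map (a :: ·)

/-- The centraliser of the generators consists of allowed elements only. -/
noncomputable def centOK (gens base : List ℕ) (orb : List (ℕ × List ℕ)) (allowed : List ℕ) : Bool :=
  (allF (fun i => Nat.blt (orb.getD i (0, [])).1 base.length &&
      Nat.beq (runSeq gens (orb.getD i (0, [])).2 (base.getD (orb.getD i (0, [])).1 0)) i) 24) &&
    ((base.all fun b => Nat.blt b 24) &&
      ((choices gens base).all fun v => tableOK gens allowed (tableOf gens orb v)))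

theorem mem_choices (gens : List ℕ) (f : ℕ → ℕ) : ∀ base : List ℕ,
    (∀ b ∈ base, f b < 24 ∧ compat gens b (f b) = true) → base.map f ∈ choices gens base := by
  intro base
  induction base with
  | nil => intro _; simp [choices]
  | cons b t ih =>
    intro h
    simp only [List.map_cons, choices, List.mem_flatMap, List.mem_filter, List.mem_range, List.mem_map]
    exact ⟨f b, h b List.mem_cons_self, t.map f, ih fun c hc => h c (List.mem_cons_of_mem _ hc), rfl⟩

theorem pr_code' {n : ℕ} {a : J4P} (h : PR n a) (w : ℕ) (hw : word w ∈ golayCode) :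
    isCW (imgMask ((List.range 24).map fun i => lk 5 n i) w) = true := by
  obtain ⟨g, hg, e⟩ := h
  have hmem : (fun p => word w ((g : Equiv.Perm GolayPt).symm p)) ∈ golayCode := by
    have hs : support₂ (fun p => word w ((g : Equiv.Perm GolayPt).symm p)) ∈
        supports (golayCode : Set (GolayPt → ZMod 2)) := by
      rw [show (fun p => word w ((g : Equiv.Perm GolayPt).symm p)) =
        (fun p => word w (((g : Equiv.Perm GolayPt)⁻¹) p)) from rfl, support₂_comp, inv_inv]
      exact smul_mem_supports g.2 ⟨word w, hw, rfl⟩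
    obtain ⟨w', hw', e'⟩ := hs
    exact CfsgLib.SmallGroups.MathieuSets.support₂_injective e' ▸ hw'
  rw [mem_code_iff_isCW] at hmem
  rw [← hmem]
  congr 1
  refine Nat.eq_of_testBit_eq fun i => ?_
  rcases Nat.lt_or_ge i 24 with hi | hi
  · have hg24 : idx ((g : Equiv.Perm GolayPt).symm (pt i)) < 24 := idx_lt _
    simp only [imgMask, mask]
    rw [Nat.testBit_ofBits_lt _ _ hi, Nat.testBit_ofBits_lt _ _ hi]
    simp only
    rw [List.getD_eq_getElem _ _ (by simpa using hi), List.getElem_map, List.getElem_range, e i hi]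
    simp only [word]
    by_cases hb : w.testBit (idx ((g : Equiv.Perm GolayPt).symm (pt i))) = true <;> simp [hb]
  · simp only [imgMask, mask]
    rw [Nat.testBit_ofBits_ge _ _ hi, Nat.testBit_ofBits_ge _ _ hi]

theorem pr_congr {m n : ℕ} {a : J4P} (h : PR n a) (e : ∀ i < 24, lk 5 m i = lk 5 n i) : PR m a := by
  obtain ⟨g, hg, e'⟩ := h
  exact ⟨g, hg, fun i hi => (e i hi).trans (e' i hi)⟩

/-- An element of the subgroup commuting with the generators is allowed. -/
theorem cent_spec {gens base allowed : List ℕ} {orb : List (ℕ × List ℕ)} {G : ℕ → J4P} {K : Set J4P}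
    (h : centOK gens base orb allowed = true) (hG : ∀ g < gens.length, PR (gens.getD g idP) (G g))
    (hK : ∀ a ∈ allowed, ∃ b ∈ K, PR a b) {m : J4P} (hm : m ∈ XY)
    (hc : ∀ g < gens.length, Commute m (G g)) : m ∈ K := by
  obtain ⟨L, hL, rfl⟩ := exists_word hm
  obtain ⟨n, hn'⟩ : ∃ n, n = wordP L := ⟨_, rfl⟩
  have hn : PR n (wev L) := hn' ▸ pr_wev hL
  have hcomm : ∀ g < gens.length, ∀ i < 24,
      lk 5 (gens.getD g idP) (lk 5 n i) = lk 5 n (lk 5 (gens.getD g idP) i) := by
    intro g hg i hi
    have h1 := (hn.mul (hG g hg))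
    have h2 := ((hG g hg).mul hn)
    rw [(hc g hg).eq] at h1
    have := el_inj ⟨_, h1⟩ ⟨_, h2⟩ (h1.el_eq.trans h2.el_eq.symm) hi
    rwa [lk_pm _ _ hi, lk_pm _ _ hi] at this
  simp only [centOK, Bool.and_eq_true, allF_iff, List.all_eq_true, Nat.blt_eq] at h
  obtain ⟨horb, hbase, hall⟩ := h
  obtain ⟨v, hv⟩ : ∃ v, v = base.map (lk 5 n) := ⟨_, rfl⟩
  have hok := hall v (hv ▸ mem_choices gens (lk 5 n) base fun b hb => ⟨hn.lt (hbase b hb), by
    simp only [compat, List.all_eq_true, Bool.or_eq_true, Bool.not_eq_true']
    intro g hg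
    by_cases hfix : lk 5 (gens.getD g idP) b = b
    · right
      rw [hcomm g (List.mem_range.1 hg) b (hbase b hb), hfix, Nat.beq_refl]
    · left
      exact Bool.eq_false_iff.2 fun e => hfix (Nat.eq_of_beq_eq_true e)⟩)
  have hrun : ∀ (s : List ℕ) (b : ℕ), b < 24 →
      runSeq gens s (lk 5 n b) = lk 5 n (runSeq gens s b) ∧ runSeq gens s b < 24 := by
    intro s
    induction s with
    | nil => intro b hb; exact ⟨rfl, hb⟩
    | cons g t ih =>
      intro b hb
      simp only [runSeq, List.foldl_cons]
      rcases Nat.lt_or_ge g gens.length with hg | hg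
      · rw [hcomm g hg b hb]
        exact ih _ ((hG g hg).lt hb)
      · rw [List.getD_eq_default _ _ hg, lk_id (hn.lt hb), lk_id hb]
        exact ih _ hb
  have htab : tableOf gens orb v = (List.range 24).map fun i => lk 5 n i := by
    refine List.map_congr_left fun i hi => ?_
    obtain ⟨hj, hrun'⟩ := horb i (List.mem_range.1 hi)
    show runSeq gens (orb.getD i (0, [])).2 (v.getD (orb.getD i (0, [])).1 0) = lk 5 n i
    obtain ⟨j, hjd⟩ : ∃ j, j = (orb.getD i (0, [])).1 := ⟨_, rfl⟩
    rw [← hjd] at hj hrun' ⊢
    have hb : base.getD j 0 < 24 := by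
      rw [List.getD_eq_getElem _ _ hj]; exact hbase _ (List.getElem_mem hj)
    rw [hv, List.getD_eq_getElem (base.map (lk 5 n)) 0 (by rw [List.length_map]; exact hj), List.getElem_map,
      ← List.getD_eq_getElem _ 0 hj, (hrun _ _ hb).1, Nat.eq_of_beq_eq_true hrun']
  rw [htab] at hok
  have hget : ∀ i < 24, ((List.range 24).map fun i => lk 5 n i).getD i 24 = lk 5 n i := fun i hi => by
    rw [List.getD_eq_getElem _ _ (by simpa using hi), List.getElem_map, List.getElem_range]
  simp only [tableOK, Bool.or_eq_true, Bool.not_eq_true', List.any_eq_true, allF_iff] at hok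
  rcases hok with hbad | hdup | ⟨a, ha, he⟩ | hcode
  · rw [← Bool.not_eq_true, List.all_eq_true] at hbad
    exfalso
    apply hbad
    intro g hg
    rw [allF_iff]
    intro i hi
    have hg' := List.mem_range.1 hg
    rw [hget i hi, hget _ ((hG g hg').lt hi), hcomm g hg' i hi, Nat.beq_refl]
  · rw [← Bool.not_eq_true, allF_iff] at hdup
    exfalso
    apply hdup
    intro i hi
    rw [allF_iff]
    intro j hj
    rw [Bool.or_eq_true, Bool.not_eq_true', hget i hi, hget j hj]
    by_cases hij : i = j
    · exact Or.inl (by rw [hij, Nat.beq_refl])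
    · refine Or.inr (Bool.eq_false_iff.2 fun e => hij ?_)
      have e := Nat.eq_of_beq_eq_true e
      obtain ⟨g, -, he⟩ := hn
      rw [he i hi, he j hj] at e
      have := (g : Equiv.Perm GolayPt).symm.injective (idx_injective e)
      rw [← idx_pt hi, ← idx_pt hj, this]
  · obtain ⟨b, hb, hpr⟩ := hK a ha
    have : PR n b := pr_congr hpr fun i hi => by rw [← hget i hi]; exact Nat.eq_of_beq_eq_true (he i hi)
    rw [hn.unique this]
    exact hb
  · rw [← Bool.not_eq_true, List.all_eq_true] at hcode
    exact absurd (fun j hj => pr_code' hn (bas j) (word_bas_mem (List.mem_range.1 hj))) hcode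

end CfsgLib.Sporadic.J4Aut
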