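import Cfsg.Agent.Lib.Sporadic.J4Aut.BasisCheck
import Cfsg.Agent.Lib.Sporadic.J4Aut.Perm

/-!
# The structure of the subgroup of `x, y, u`, and the orbits on its cosets

Given the order of the group: every element is uniquely a vector times an element of `⟨x, y⟩`, the index is exact
and the twenty orbits have exactly the recorded stabilisers.
-/

set_option autoImplicit false
set_option maxRecDepth 100000

namespace CfsgLib.Sporadic.J4Aut

open Cfsg Cfsg.Spor CfsgLib.Sporadic.CosetCert.J4M24 CfsgLib.Sporadic.CosetCert.J4Index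
  CfsgLib.Sporadic.J4Rep

attribute [local irreducible] sameW bW uW basM actX actY actYi

/-- A basis element. -/
noncomputable def bA (i : ℕ) : J4P := wev (bW i)

/-- The element of a vector, on the first basis elements. -/
noncomputable def aK (c : ℕ) : ℕ → J4P
  | 0 => 1
  | k + 1 => aK c k * if c.testBit k then bA k else 1

/-- The element of a vector. -/
noncomputable def aEl (c : ℕ) : J4P := aK c 11

theorem wev_cW (c : ℕ) : ∀ k, wev (cW c k) = aK c k
  | 0 => rfl
  | k + 1 => by
    rw [cW, wev_append, wev_cW c k, aK]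
    split <;> rfl

/-- The image of a vector under a linear map given on the basis, on the first basis elements. -/
def appK (L : List ℕ) (c : ℕ) : ℕ → ℕ
  | 0 => 0
  | k + 1 => appK L c k ^^^ if c.testBit k then L.getD k 0 else 0

/-- The image of a vector. -/
def app (L : List ℕ) (c : ℕ) : ℕ := appK L c 11

/-- The image of a vector under a word. -/
noncomputable def appW : List ℕ → ℕ → ℕ
  | [], c => c
  | a :: t, c => BitMatrix.forced (app ([actX, actY, actYi].getD a [])) (appW t c)

section
variable (hinj : Function.Injective rep)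
include hinj

theorem bA_sq {i : ℕ} (hi : i < 11) : bA i * bA i = 1 := by
  have := wev_eq hinj (bas_sq i hi)
  rwa [wev_append, wev_nil] at this

theorem bA_comm {i j : ℕ} (hi : i < 11) (hj : j < 11) : Commute (bA i) (bA j) := by
  have h : ∀ i < 11, ∀ j < i, Commute (bA i) (bA j) := fun i hi j hj => by
    have := wev_eq hinj (bas_comm i hi j hj)
    rwa [wev_append, wev_append] at this
  rcases Nat.lt_trichotomy j i with h' | rfl | h'
  exacts [h i hi j h', Commute.refl _, (h j hj i h').symm]

theorem bA_comm_aK {i : ℕ} (hi : i < 11) (c : ℕ) : ∀ k ≤ 11, Commute (bA i) (aK c k)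
  | 0, _ => Commute.one_right _
  | k + 1, hk => by
    refine (bA_comm_aK hi c k (by omega)).mul_right ?_
    split
    · exact bA_comm hinj hi (by omega)
    · exact Commute.one_right _

theorem aK_xor (c d : ℕ) : ∀ k ≤ 11, aK (c ^^^ d) k = aK c k * aK d k
  | 0, _ => (one_mul 1).symm
  | k + 1, hk => by
    have hb := bA_sq hinj (i := k) (by omega)
    have hc := (bA_comm_aK hinj (i := k) (by omega) d k (by omega)).eq
    simp only [aK, aK_xor c d k (by omega), Nat.testBit_xor]
    obtain ⟨P, hP⟩ : ∃ P, P = aK c k := ⟨_, rfl⟩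
    obtain ⟨Q, hQ⟩ : ∃ Q, Q = aK d k := ⟨_, rfl⟩
    obtain ⟨B, hB⟩ : ∃ B, B = bA k := ⟨_, rfl⟩
    rw [← hB, ← hQ] at hc
    rw [← hP, ← hQ, ← hB]
    rw [← hB] at hb
    cases c.testBit k <;> cases d.testBit k <;> simp [mul_assoc]
    · exact hc.symm
    · rw [← mul_assoc B Q B, hc, mul_assoc, hb, mul_one]

theorem aEl_xor (c d : ℕ) : aEl (c ^^^ d) = aEl c * aEl d := aK_xor hinj c d 11 le_rfl

theorem aEl_zero : aEl 0 = 1 := by simp [aEl, aK]

theorem aEl_inv (c : ℕ) : (aEl c)⁻¹ = aEl c :=
  inv_eq_of_mul_eq_one_right (by rw [← aEl_xor hinj, Nat.xor_self, aEl_zero hinj])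

/-- The element acts on vectors by the map. -/
def Acts (g : J4P) (L : List ℕ) : Prop := ∀ c, g * aEl c * g⁻¹ = aEl (app L c)

theorem acts_of_basis {g : J4P} {L : List ℕ} (h : ∀ i < 11, g * bA i * g⁻¹ = aEl (L.getD i 0)) : Acts g L := by
  intro c
  suffices ∀ k ≤ 11, g * aK c k * g⁻¹ = aEl (appK L c k) from this 11 le_rfl
  intro k
  induction k with
  | zero => intro _; simp [aK, appK, aEl_zero hinj]
  | succ k ih =>
    intro hk
    rw [aK, appK, aEl_xor hinj, ← ih (by omega)]
    split
    · rw [← h k (by omega)]; group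
    · rw [aEl_zero hinj, mul_one, mul_one]

theorem aEl_two_pow {i : ℕ} (hi : i < 11) : aEl (2 ^ i) = bA i := by
  suffices ∀ k ≤ 11, aK (2 ^ i) k = if i < k then bA i else 1 by
    rw [aEl, this 11 le_rfl, if_pos hi]
  intro k
  induction k with
  | zero => intro _; simp [aK]
  | succ k ih =>
    intro hk
    rw [aK, ih (by omega), Nat.testBit_two_pow]
    by_cases h : i = k
    · subst h; simp
    · simp only [h, decide_false, if_false, mul_one, Bool.false_eq_true]
      by_cases h2 : i < k
      · rw [if_pos h2, if_pos (by omega)]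
      · rw [if_neg h2, if_neg (by omega)]

theorem acts_let : Acts gX actX ∧ Acts gY actY ∧ Acts gY⁻¹ actYi := by
  obtain ⟨hx, hy, -⟩ := rels
  have ix : gX⁻¹ = gX := inv_eq_of_mul_eq_one_right (by rw [← pow_two]; exact hx)
  refine ⟨acts_of_basis hinj fun i hi => ?_, acts_of_basis hinj fun i hi => ?_, acts_of_basis hinj fun i hi => ?_⟩
  · have := wev_eq hinj (bas_x i hi)
    rw [wev_cW] at this
    rw [aEl, ← this]
    simp [wev_cons, wev_append, wev_nil, letG, ix, bA, mul_assoc]
  · have := wev_eq hinj (bas_y i hi)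
    rw [wev_cW] at this
    rw [aEl, ← this]
    simp [wev_cons, wev_append, wev_nil, letG, bA, mul_assoc]
  · have := wev_eq hinj (bas_yi i hi)
    rw [wev_cW] at this
    rw [aEl, ← this]
    simp [wev_cons, wev_append, wev_nil, letG, bA, mul_assoc]

theorem conj_word : ∀ L : List ℕ, (∀ a ∈ L, a < 3) → ∀ c, wev L * aEl c * (wev L)⁻¹ = aEl (appW L c)
  | [], _, c => by rw [wev_nil, one_mul, inv_one, mul_one, appW]
  | a :: t, h, c => by
    rw [appW, BitMatrix.forced_eq, wev_cons, mul_inv_rev]
    have ih := conj_word t (fun b hb => h b (List.mem_cons_of_mem _ hb)) c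
    have hs : Acts (letG a) ([actX, actY, actYi].getD a []) := by
      obtain ⟨hx, hy, hyi⟩ := acts_let hinj
      have ha := h a List.mem_cons_self
      interval_cases a
      · exact hx
      · exact hy
      · exact hyi
    rw [← hs, ← ih]
    group

theorem acts_word {L M : List ℕ} (hL : ∀ a ∈ L, a < 3) (h : ∀ i < 11, appW L (2 ^ i) = M.getD i 0) :
    Acts (wev L) M :=
  acts_of_basis hinj fun i hi => by
    rw [← h i hi, ← conj_word hinj L hL, aEl_two_pow hinj hi]

theorem gU_eq : gU = wev uW := by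
  unfold uW
  rw [wev_power, wev_append, wev_append, wev_append, wev_winv, wev_wordG wU (by decide)]
  simp [gU, wev, letG, mul_assoc]

/-- The elements of the form vector times element of `⟨x, y⟩`. -/
theorem exists_decomp {h : J4P} (hh : h ∈ HS) : ∃ c, ∃ m ∈ XY, h = aEl c * m := by
  let S : Subgroup J4P :=
    { carrier := {g | ∃ c, ∃ m ∈ XY, g = aEl c * m}
      one_mem' := ⟨0, 1, one_mem _, by rw [aEl_zero hinj, mul_one]⟩
      mul_mem' := by
        rintro _ _ ⟨c, m, hm, rfl⟩ ⟨d, n, hn, rfl⟩
        obtain ⟨L, hL, rfl⟩ := exists_word hm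
        refine ⟨c ^^^ appW L d, wev L * n, mul_mem hm hn, ?_⟩
        rw [aEl_xor hinj, ← conj_word hinj L hL d]
        group
      inv_mem' := by
        rintro _ ⟨c, m, hm, rfl⟩
        obtain ⟨L, hL, e⟩ := exists_word (inv_mem hm)
        refine ⟨appW L c, m⁻¹, inv_mem hm, ?_⟩
        rw [← conj_word hinj L hL c, e, mul_inv_rev, aEl_inv hinj]
        group }
  have hle : HS ≤ S := by
    rw [HS, Subgroup.closure_le]
    rintro g (rfl | rfl | rfl)
    · exact ⟨0, gX, Subgroup.subset_closure (Or.inl rfl), by rw [aEl_zero hinj, one_mul]⟩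
    · exact ⟨0, gY, Subgroup.subset_closure (Or.inr rfl), by rw [aEl_zero hinj, one_mul]⟩
    · refine ⟨uCode, 1, one_mem _, ?_⟩
      rw [mul_one, gU_eq hinj, wev_eq hinj bas_u, wev_cW]
      rfl
  exact hle hh

end

theorem aK_mod (c : ℕ) : ∀ k ≤ 11, aK (c % 2048) k = aK c k
  | 0, _ => rfl
  | k + 1, hk => by
    rw [aK, aK, aK_mod c k (by omega), show (2048 : ℕ) = 2 ^ 11 from rfl, Nat.testBit_mod_two_pow,
      decide_eq_true (show k < 11 by omega), Bool.true_and]

/-- The group has the order of the fourth Janko group. -/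
def CardJ4 : Prop := Nat.card J4P = 86775571046077562880

theorem finite_of_card (hc : CardJ4) : Finite J4P :=
  Nat.finite_of_card_ne_zero (by rw [hc]; norm_num)

section
variable (hinj : Function.Injective rep) (hc : CardJ4)
include hinj hc

theorem exact_facts : HS.index = 173067389 ∧
    ∀ c d : ℕ, ∀ m n : J4P, c < 2048 → d < 2048 → m ∈ XY → n ∈ XY → aEl c * m = aEl d * n → c = d ∧ m = n := by
  have := finite_of_card hc
  let S := {g : J4P | ∃ c, ∃ m ∈ XY, g = aEl c * m}
  let f : Fin 2048 × XY → S := fun p => ⟨aEl p.1 * (p.2 : J4P), p.1, p.2, p.2.2, rfl⟩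
  have hf : Function.Surjective f := by
    rintro ⟨_, c, m, hm, rfl⟩
    exact ⟨(⟨c % 2048, Nat.mod_lt _ (by norm_num)⟩, ⟨m, hm⟩),
      Subtype.ext (by show aEl (c % 2048) * m = _; rw [aEl, aK_mod c 11 le_rfl, ← aEl])⟩
  have hS : Nat.card HS ≤ Nat.card S :=
    Nat.card_le_card_of_injective (fun h : HS => (⟨(h : J4P), exists_decomp hinj h.2⟩ : S))
      fun a b e => Subtype.ext (congrArg (fun s : S => (s : J4P)) e)
  have hSle : Nat.card S ≤ 501397585920 := by
    refine (Nat.card_le_card_of_surjective f hf).trans ?_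
    rw [Nat.card_prod, card_XY_eq, Nat.card_fin]
  have hmul := HS.card_mul_index
  rw [hc] at hmul
  have hidx := index_le.1
  have hi : HS.index = 173067389 := by
    refine le_antisymm hidx ?_
    by_contra hlt
    have h1 : Nat.card HS * HS.index ≤ 501397585920 * 173067388 :=
      Nat.mul_le_mul (hS.trans hSle) (by omega)
    omega
  refine ⟨hi, fun c d m n hc' hd' hm hn e => ?_⟩
  have hH : Nat.card HS = 501397585920 := by
    rw [hi] at hmul
    exact Nat.eq_of_mul_eq_mul_right (m := 173067389) (by norm_num) (hmul.trans (by norm_num))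
  have hb : Function.Bijective f := (Nat.bijective_iff_surjective_and_card f).2 ⟨hf, by
    refine le_antisymm ?_ (Nat.card_le_card_of_surjective f hf)
    rw [Nat.card_prod, card_XY_eq, Nat.card_fin]
    exact (show 2048 * 244823040 ≤ Nat.card HS by rw [hH]).trans hS⟩
  have := hb.1 (a₁ := (⟨c, hc'⟩, ⟨m, hm⟩)) (a₂ := (⟨d, hd'⟩, ⟨n, hn⟩)) (Subtype.ext e)
  rw [Prod.mk.injEq, Fin.mk.injEq, Subtype.mk.injEq] at this
  exact this

/-- The elements of `⟨x, y⟩` fixing a coset. -/
noncomputable def stabC (c : J4P ⧸ HS) : Subgroup XY := MulAction.stabilizer XY c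

theorem cosetMap_facts : Function.Bijective cosetMap ∧
    ∀ i : Fin 20, Nat.card (nodeStab i) = stabOrd.getD i 0 := by
  have := finite_of_card hc
  have := finite_XY
  have hidx := (exact_facts hinj hc).1
  have hsum := Nat.card_le_card_of_surjective _ cosetMap_surjective
  rw [show Nat.card (J4P ⧸ HS) = HS.index from rfl, hidx, Nat.card_sigma] at hsum
  have hle : ∀ i ∈ Finset.univ, Nat.card (XY ⧸ nodeStab i) ≤ 244823040 / stabOrd.getD i 0 := fun i _ => quot_le i
  have heq : ∀ i ∈ Finset.univ, Nat.card (XY ⧸ nodeStab i) = 244823040 / stabOrd.getD i 0 :=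
    (Finset.sum_eq_sum_iff_of_le hle).1 (le_antisymm (Finset.sum_le_sum hle) (sum_bound.le.trans hsum))
  refine ⟨(Nat.bijective_iff_surjective_and_card _).2 ⟨cosetMap_surjective, ?_⟩, fun i => ?_⟩
  · rw [show Nat.card (J4P ⧸ HS) = HS.index from rfl, hidx, Nat.card_sigma, Finset.sum_congr rfl heq, sum_bound]
  · have h := (nodeStab i).card_mul_index
    rw [show (nodeStab i).index = Nat.card (XY ⧸ nodeStab i) from rfl, heq i (Finset.mem_univ i), card_XY_eq] at h
    have hd : stabOrd.getD i 0 ∣ 244823040 :=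
      (show ∀ j : Fin 20, stabOrd.getD j 0 ∣ 244823040 by decide +kernel) i
    have hp : 0 < 244823040 / stabOrd.getD i 0 := Nat.div_pos (Nat.le_of_dvd (by norm_num) hd) (by
      exact Nat.pos_of_dvd_of_pos hd (by norm_num))
    refine Nat.eq_of_mul_eq_mul_right hp ?_
    rw [h, Nat.mul_div_cancel' hd]

end

end CfsgLib.Sporadic.J4Aut
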