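import Cfsg.Agent.Lib.Sporadic.J4Aut.OrbitData
import Cfsg.Agent.Lib.Sporadic.J4Aut.Sub

/-!
# Kernel checks on permutations and vectors
-/

set_option autoImplicit false
set_option maxRecDepth 100000

namespace CfsgLib.Sporadic.J4Aut

open CfsgLib.Sporadic.CosetCert.J4Index
open CfsgLib.Sporadic.OutCert (lk allF)

/-- The word of the element of order 23. -/
def eW : List ℕ := [0, 1]

/-- The word of the second generator of the trio stabiliser. -/
def wW : List ℕ := [1, 0, 1, 0, 2, 0, 2, 0, 1, 0, 1, 0, 1]

/-- The word of a power. -/
def powW (L : List ℕ) (n : ℕ) : List ℕ := (List.replicate n L).flatten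

/-- The word of a letter among `e, e⁻¹, r, r⁻¹`. -/
def erLet (i : ℕ) : List ℕ := [eW, winv eW, rW, winv rW].getD i []

theorem in_xy : ([eW, dW, rW, wW].all fun L => L.all fun a => Nat.blt a 3) = true := by decide +kernel

theorem cent_e : centOK [wordP eW] eBase eOrb ((List.range 23).map fun k => wordP (powW eW k)) = true := by
  decide +kernel

theorem cent_d : centOK [wordP dW] dBase dOrb ((List.range 11).map fun k => wordP (powW dW k)) = true := by
  decide +kernel

theorem cent_l : centOK [wordP [0], wordP wW] lBase lOrb [wordP []] = true := by decide +kernel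

theorem e_order : Nat.beq (wordP (powW eW 23)) idP = true ∧ Nat.beq (wordP eW) idP = false := by decide +kernel

theorem d_order : Nat.beq (wordP (powW dW 11)) idP = true ∧ Nat.beq (wordP dW) idP = false := by decide +kernel

theorem r_conj : Nat.beq (wordP (rW ++ dW)) (wordP (powW dW 6 ++ rW)) = true := by decide +kernel

theorem de_conj : Nat.beq (wordP (dW ++ eW)) (wordP (powW eW 2 ++ dW)) = true := by decide +kernel

theorem x_word : Nat.beq (wordP (xER.flatMap erLet)) (wordP [0]) = true := by decide +kernel

theorem map_e : allF (fun i => Nat.beq (appW eW (2 ^ i)) (eMap.getD i 0)) 11 = true := by decide +kernel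

theorem map_d : allF (fun i => Nat.beq (appW dW (2 ^ i)) (dMap.getD i 0)) 11 = true := by decide +kernel

theorem map_w : allF (fun i => Nat.beq (appW wW (2 ^ i)) (wMap.getD i 0)) 11 = true := by decide +kernel

theorem fix_e : allF (fun c => !Nat.beq (app eMap c) c || Nat.beq c 0) 2048 = true := by decide +kernel

theorem fix_d : allF (fun c => !Nat.beq (app dMap c) c || Nat.beq c 0 || Nat.beq c dFix) 2048 = true := by
  decide +kernel

theorem fix_l : allF (fun c => !(Nat.beq (app actX c) c && Nat.beq (app wMap c) c) || Nat.beq c 0) 2048 = true := by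
  decide +kernel

theorem d_fix_lt : Nat.blt dFix 2048 = true ∧ Nat.beq (app dMap dFix) dFix = true := by decide +kernel

/-- The image of a trio under a letter. -/
noncomputable def imgT (a p : ℕ) : ℕ :=
  match a with
  | 0 => lk 12 xyImg p
  | 1 => lk 12 xyImg (3795 + p)
  | _ => lk 12 xyImg (3795 + lk 12 xyImg (3795 + p))

/-- The image of a trio under a word. -/
noncomputable def runT (L : List ℕ) (p : ℕ) : ℕ := L.foldl (fun q a => imgT a q) p

theorem trio_fix :
    allF (fun p => Nat.beq p 0 || !Nat.beq (imgT 0 p) p || !Nat.beq (runT wW p) p) 3795 = true := by decide +kernel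

end CfsgLib.Sporadic.J4Aut
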