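import Cfsg.Agent.Lib.Sporadic.J4Aut.Data
import Cfsg.Agent.Lib.Sporadic.J4Aut.PermChecks

/-!
# Kernel checks on `z` and the matrices of the generators of the centraliser
-/

set_option autoImplicit false
set_option maxRecDepth 100000

namespace CfsgLib.Sporadic.J4Aut

open CfsgLib.Sporadic.BitMatrix CfsgLib.Sporadic.J4Rep

theorem z_conj : sameW (zW ++ eW) (powW eW 5 ++ zW) = true := by decide +kernel

theorem z_sq : sameW (zW ++ zW) dW = true := by decide +kernel

theorem mats_ok : ([zM, z11M, dM, rM, riM, aM, qM].all fun A => ok 112 A) = true := by decide +kernel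

theorem mats_word : (sameP [zM] (zW.map lett) && (sameP [z11M] (List.replicate 11 zM) &&
    (sameP [dM] (dW.map lett) && (sameP [rM] (rW.map lett) && (sameP [riM] ((winv rW).map lett) &&
    (sameP [aM] ((cW dFix 11).map lett) && sameP [qM] ((powW eW 6 ++ zW ++ rW).map lett))))))) = true := by
  decide +kernel

theorem q_facts : sameP (List.replicate 8 qM) [] = true ∧ sameP (List.replicate 4 qM) [] = false := by
  decide +kernel

end CfsgLib.Sporadic.J4Aut
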