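import Cfsg.Agent.Lib.Sporadic.J4Aut.CandLeft
import Cfsg.Agent.Lib.Sporadic.J4Aut.CandRight
import Cfsg.Agent.Lib.Sporadic.J4Aut.MatChecks

/-!
# The candidates of the centraliser of the element of order eleven
-/

set_option autoImplicit false
set_option maxRecDepth 100000

namespace CfsgLib.Sporadic.J4Aut

open CfsgLib.Sporadic.BitMatrix CfsgLib.Sporadic.J4Rep

/-- The conjugate of the eleventh power of `z` by a power of `r`, as matrices. -/
def coreL : ℕ → List (List ℕ)
  | 0 => []
  | j + 1 => List.replicate j rM ++ [z11M] ++ List.replicate j riM

/-- The right factors as matrices. -/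
def coreR (l k : ℕ) : List (List ℕ) := List.replicate l aM ++ List.replicate k dM

theorem candL_ok : (List.range 11).all (fun j => ok 112 (candL.getD j []) &&
    sameP [candL.getD j []] (qM :: coreL j)) = true := by decide +kernel

theorem candR_ok : (List.range 22).all (fun i => ok 112 (candR.getD i []) &&
    sameP [candR.getD i []] (coreR (i / 11) (i % 11))) = true := by decide +kernel

/-- A candidate fails: its eighth power is not one or its fourth power is one. -/
noncomputable def failsAt (j i : ℕ) : Bool :=
  (!sameP (List.replicate 8 [candL.getD j [], candR.getD i []]).flatten []) ||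
    sameP (List.replicate 4 [candL.getD j [], candR.getD i []]).flatten []

theorem fails0 : (List.range 121).all (fun c => Nat.beq c 0 || failsAt (c / 22) (c % 22)) = true := by decide +kernel

theorem fails1 : (List.range 121).all (fun c => failsAt ((121 + c) / 22) ((121 + c) % 22)) = true := by decide +kernel

end CfsgLib.Sporadic.J4Aut
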