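import Cfsg.Agent.Lib.Sporadic.J4Aut.Local

/-!
# Centralisers in the whole group
-/

set_option autoImplicit false
set_option maxRecDepth 100000

namespace CfsgLib.Sporadic.J4Aut

open Cfsg Cfsg.Spor CfsgLib.Sporadic.CosetCert.J4M24 CfsgLib.Sporadic.CosetCert.J4Index
  CfsgLib.Sporadic.J4Rep
open CfsgLib.Sporadic.OutCert (lk allF allF_iff)

attribute [local irreducible] wordP idP sameW sameP eW dW rW zW wW dFix powW imgT runT xyImg wT

/-- The element `x` of `⟨x, y⟩`. -/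
noncomputable def xE : XY := ⟨gX, Subgroup.subset_closure (Or.inl rfl)⟩
/-- The element of order 23 of `⟨x, y⟩`. -/
noncomputable def eE : XY := ⟨gE, gE_mem⟩
/-- The element of order 11 of `⟨x, y⟩`. -/
noncomputable def dE : XY := ⟨gD, gD_mem⟩

theorem eE_order : orderOf eE = 23 := by
  rw [← gE_order]
  exact (orderOf_injective XY.subtype XY.subtype_injective eE).symm

theorem dE_order : orderOf dE = 11 := by
  rw [← gD_order]
  exact (orderOf_injective XY.subtype XY.subtype_injective dE).symm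

theorem smul_coset (a : XY) (g : J4P) : a • (g : J4P ⧸ HS) = (((a : J4P) * g : J4P) : J4P ⧸ HS) := rfl

theorem coset_eq_base {g : J4P} : (g : J4P ⧸ HS) = baseC ↔ g ∈ HS := by
  rw [baseC, QuotientGroup.eq, mul_one, inv_mem_iff]

/-- The second fixed coset of the element of order 23. -/
noncomputable def secC : J4P ⧸ HS := ((gZ⁻¹ : J4P) : J4P ⧸ HS)

/-- The levels of the counting chain of the trio stabiliser. -/
def chainT : List (ℕ × List ℕ) :=
  levsT.map fun L => (L.1, (L.2.filter fun v => !Nat.beq v 0).map fun v => v - 1)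

theorem chainT_ok : chain esT chainT = true ∧ (chainT.map fun L => L.2.length).prod = 64512 := by decide +kernel

theorem card_trio_ge [Finite XY] :
    64512 ≤ Nat.card (Subgroup.closure {xE, (⟨gW, gW_mem⟩ : XY)}) := by
  obtain ⟨L, hLd⟩ : ∃ L, L = Subgroup.closure {xE, (⟨gW, gW_mem⟩ : XY)} := ⟨_, rfl⟩
  rw [← hLd]
  have hx : xE ∈ L := hLd ▸ Subgroup.subset_closure (Or.inl rfl)
  have hw : (⟨gW, gW_mem⟩ : XY) ∈ L := hLd ▸ Subgroup.subset_closure (Or.inr rfl)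
  obtain ⟨K, hK⟩ : ∃ K, K = L.map XY.subtype := ⟨_, rfl⟩
  have : Finite (L.map XY.subtype) := Finite.of_surjective (fun a : L => (⟨a.1.1, a.1, a.2, rfl⟩ : L.map XY.subtype))
    (by rintro ⟨_, a, ha, rfl⟩; exact ⟨⟨a, ha⟩, rfl⟩)
  have e : gensT = [pX, wordP [1, 0, 1, 0, 2, 0, 2, 0, 1, 0, 1, 0, 1], gensT.getD 2 idP] := by decide +kernel
  have i1 : In (L.map XY.subtype) (wordP [1, 0, 1, 0, 2, 0, 2, 0, 1, 0, 1, 0, 1]) := by
    refine ⟨good_word _, ?_⟩
    rw [el_word]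
    refine ⟨⟨gW, gW_mem⟩, hw, ?_⟩
    show gW = _
    rw [gW, wev_wordG _ lt_xy.2.2.2]
    unfold wW
    rfl
  have hg : ∀ g ∈ gensT, In (L.map XY.subtype) g := by
    intro g hg
    rw [e] at hg
    simp only [List.mem_cons, List.not_mem_nil, or_false] at hg
    rcases hg with rfl | rfl | rfl
    · exact ⟨⟨_, pr_x⟩, by rw [pr_x.el_eq]; exact ⟨xE, hx, rfl⟩⟩
    · exact i1
    · exact i1.inv (by decide +kernel)
  have hc := chain_card (K := L.map XY.subtype) (treeOK_sound hg treeT_ok).1 chainT chainT_ok.1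
  rw [chainT_ok.2, Subgroup.card_map_of_injective XY.subtype_injective] at hc
  exact hc

theorem imgT_spec : ∀ a < 3, ∀ p < 3795,
    imgT a p < 3795 ∧ tP (imgT a p) = (letG a)⁻¹ * tP p * letG a := by
  have hxy := allF_iff.1 xy_ok
  have hy : ∀ p < 3795, lk 12 xyImg (3795 + p) < 3795 ∧
      tP (lk 12 xyImg (3795 + p)) = gY⁻¹ * tP p * gY := by
    intro p hp
    have h := hxy p hp
    simp only [Bool.and_eq_true] at h
    obtain ⟨-, hq, e⟩ := triOK_sound (m := pY) ⟨_, pr_y⟩ h.2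
    exact ⟨hq, by rw [e, pr_y.el_eq]⟩
  intro a ha p hp
  interval_cases a
  · have h := hxy p hp
    simp only [Bool.and_eq_true] at h
    obtain ⟨-, hq, e⟩ := triOK_sound (m := pX) ⟨_, pr_x⟩ h.1
    rw [pr_x.el_eq] at e
    unfold imgT
    exact ⟨hq, e⟩
  · unfold imgT
    exact hy p hp
  · obtain ⟨h1, e1⟩ := hy p hp
    obtain ⟨h2, e2⟩ := hy _ h1
    unfold imgT
    refine ⟨h2, ?_⟩
    have h3 : gY⁻¹ = gY * gY := inv_eq_of_mul_eq_one_right (by rw [← mul_assoc, ← pow_two, ← pow_succ]; exact rels.2.1)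
    show tP (lk 12 xyImg (3795 + lk 12 xyImg (3795 + p))) = (gY⁻¹)⁻¹ * tP p * gY⁻¹
    rw [e2, e1]
    calc gY⁻¹ * (gY⁻¹ * tP p * gY) * gY = (gY * gY)⁻¹ * tP p * (gY * gY) := by group
      _ = _ := by rw [← h3]

theorem runT_spec : ∀ (L : List ℕ), (∀ a ∈ L, a < 3) → ∀ p < 3795,
    runT L p < 3795 ∧ tP (runT L p) = (wev L)⁻¹ * tP p * wev L := by
  intro L
  induction L with
  | nil => intro _ p hp; unfold runT; exact ⟨hp, by simp [wev_nil]⟩
  | cons a t ih =>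
    intro hL p hp
    obtain ⟨h1, e1⟩ := imgT_spec a (hL a List.mem_cons_self) p hp
    obtain ⟨h2, e2⟩ := ih (fun b hb => hL b (List.mem_cons_of_mem _ hb)) _ h1
    have e : runT (a :: t) p = runT t (imgT a p) := by unfold runT; rfl
    rw [e]
    refine ⟨h2, ?_⟩
    rw [e2, e1, wev_cons]
    group

section
variable (hinj : Function.Injective rep)
include hinj

theorem z_rel : gZ * gE * gZ⁻¹ = gE ^ 5 := by
  have h := wev_eq hinj z_conj
  rw [wev_append, wev_append, wev_powW] at h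
  rw [gZ, gE, h, mul_inv_cancel_right]

theorem z_square : gZ * gZ = gD := by
  have h := wev_eq hinj z_sq
  rwa [wev_append] at h

theorem z11_comm : Commute (gZ ^ 11) gD := by
  rw [← z_square hinj, ← pow_two]
  exact (Commute.refl gZ).pow_pow 11 2

theorem z_commutes_d : Commute gZ gD := by
  rw [← z_square hinj]
  exact (Commute.refl gZ).mul_right (Commute.refl gZ)

theorem z12_mem : gZ ^ 12 ∈ HS := by
  rw [show 12 = 2 * 6 from rfl, pow_mul, pow_two, z_square hinj]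
  exact pow_mem (XY_le gD_mem) 6

theorem stab_secC : eE ∈ stabC secC ∧ dE ∈ stabC secC := by
  refine ⟨?_, ?_⟩ <;> rw [secC, mem_stabC, inv_inv]
  · show gZ * gE * gZ⁻¹ ∈ HS
    rw [z_rel hinj]
    exact pow_mem (XY_le gE_mem) 5
  · show gZ * gD * gZ⁻¹ ∈ HS
    rw [(z_commutes_d hinj).eq, mul_inv_cancel_right]
    exact XY_le gD_mem

end

theorem ed_solve : ∀ i < 23, ∀ j < 11, j ≠ 0 → ∃ s < 23, (s + (23 - 2 ^ j % 23) * s) % 23 = i := by decide +kernel

section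
variable (hinj : Function.Injective rep) (hc : CardJ4)
include hinj hc

theorem secC_ne : secC ≠ baseC := by
  intro h
  rw [secC, coset_eq_base, inv_mem_iff] at h
  obtain ⟨m, hm, e⟩ := cent_H_E hinj hc h (z_rel hinj)
  exact no_five hm e

theorem card_secC : Nat.card (stabC secC) = 253 := by
  refine (card_of_dvd hinj hc (p := 23) ?_ (by decide +kernel)).resolve_left (secC_ne hinj hc)
  rw [← eE_order]
  exact (stabC secC).orderOf_dvd_natCard (stab_secC hinj).1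

theorem secC_elements (q : XY) (hq : q ∈ stabC secC) : ∃ i < 23, ∃ j < 11, q = eE ^ i * dE ^ j := by
  have := finite_of_card hc
  obtain ⟨he, hd⟩ := stab_secC hinj
  let f : Fin 23 × Fin 11 → stabC secC := fun p =>
    ⟨eE ^ (p.1 : ℕ) * dE ^ (p.2 : ℕ), mul_mem (pow_mem he _) (pow_mem hd _)⟩
  have hf : Function.Injective f := by
    intro a b h
    have h' : eE ^ (a.1 : ℕ) * dE ^ (a.2 : ℕ) = eE ^ (b.1 : ℕ) * dE ^ (b.2 : ℕ) := congrArg Subtype.val h
    have hdis : Subgroup.zpowers eE ⊓ Subgroup.zpowers dE = ⊥ :=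
      Subgroup.inf_eq_bot_of_coprime (by rw [Nat.card_zpowers, Nat.card_zpowers, eE_order, dE_order]; norm_num)
    have hm : (eE ^ (b.1 : ℕ))⁻¹ * eE ^ (a.1 : ℕ) ∈ Subgroup.zpowers eE ⊓ Subgroup.zpowers dE := by
      refine Subgroup.mem_inf.2 ⟨(Subgroup.zpowers eE).mul_mem ((Subgroup.zpowers eE).inv_mem (pow_mem (Subgroup.mem_zpowers _) _)) (pow_mem (Subgroup.mem_zpowers _) _), ?_⟩
      have e : (eE ^ (b.1 : ℕ))⁻¹ * eE ^ (a.1 : ℕ) = dE ^ (b.2 : ℕ) * (dE ^ (a.2 : ℕ))⁻¹ := by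
        rw [eq_mul_inv_iff_mul_eq, mul_assoc, h', inv_mul_cancel_left]
      rw [e]
      exact (Subgroup.zpowers dE).mul_mem (pow_mem (Subgroup.mem_zpowers _) _) ((Subgroup.zpowers dE).inv_mem (pow_mem (Subgroup.mem_zpowers _) _))
    rw [hdis, Subgroup.mem_bot, inv_mul_eq_one] at hm
    rw [hm, mul_right_inj] at h'
    refine Prod.ext (Fin.ext ?_) (Fin.ext ?_)
    · exact (pow_injOn_Iio_orderOf (by rw [eE_order]; exact b.1.2) (by rw [eE_order]; exact a.1.2) hm).symm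
    · exact pow_injOn_Iio_orderOf (by rw [dE_order]; exact a.2.2) (by rw [dE_order]; exact b.2.2) h'
  have hb : Function.Bijective f := (Nat.bijective_iff_injective_and_card f).2
    ⟨hf, by rw [Nat.card_prod, Nat.card_fin, Nat.card_fin, card_secC hinj hc]⟩
  obtain ⟨⟨i, j⟩, e⟩ := hb.2 ⟨q, hq⟩
  exact ⟨i, i.2, j, j.2, (congrArg Subtype.val e).symm⟩

theorem fixed_E {c : J4P ⧸ HS} (h : eE ∈ stabC c) : c = baseC ∨ c = secC := by
  rcases card_of_dvd hinj hc (p := 23) (c := c) (by rw [← eE_order]; exact (stabC c).orderOf_dvd_natCard h)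
    (by decide +kernel) with h' | h'
  · exact Or.inl h'
  obtain ⟨a, rfl⟩ := orbit_of_card hinj hc (k := 253) (by decide +kernel) (card_secC hinj hc) h'
  right
  have hq : a⁻¹ * eE * a ∈ stabC secC := by
    rw [stabC, MulAction.mem_stabilizer_iff, mul_smul, mul_smul, MulAction.mem_stabilizer_iff.1 h,
      inv_smul_smul]
  obtain ⟨i, -, j, hj, e⟩ := secC_elements hinj hc _ hq
  have e' : (a : J4P)⁻¹ * gE * a = gE ^ i * gD ^ j := by
    simpa [eE, dE] using congrArg Subtype.val e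
  have hj0 : j = 0 := by
    by_contra hne
    have : Fact (Nat.Prime 11) := ⟨by norm_num⟩
    obtain ⟨s, hs, hsi⟩ := ed_solve (i % 23) (Nat.mod_lt _ (by norm_num)) j hj hne
    have hcon : gE ^ s * gD ^ j * (gE ^ s)⁻¹ = gE ^ i * gD ^ j := by
      have h1 : gD ^ j * (gE ^ s)⁻¹ * (gD ^ j)⁻¹ = (gE ^ (2 ^ j * s))⁻¹ := by
        rw [pow_mul, ← d_conj_pow, conj_pow]; group
      calc gE ^ s * gD ^ j * (gE ^ s)⁻¹ = gE ^ s * (gD ^ j * (gE ^ s)⁻¹ * (gD ^ j)⁻¹) * gD ^ j := by group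
        _ = gE ^ (s + (23 - 2 ^ j % 23) * s) * gD ^ j := by
          rw [h1, pow_add]
          congr 2
          rw [inv_eq_iff_mul_eq_one, ← pow_add, ← orderOf_dvd_iff_pow_eq_one, gE_order, ← add_mul]
          refine Dvd.dvd.mul_right ?_ s
          omega
        _ = gE ^ i * gD ^ j := by
          rw [eq_pow_mod gE_order (b := i) hsi]
    have h11 : gD ^ j ^ 1 = gD ^ j := by rw [pow_one]
    have ho : (gE ^ i * gD ^ j) ^ 11 = 1 := by
      rw [← hcon, conj_pow, ← pow_mul, mul_comm j, pow_mul,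
        show gD ^ 11 = 1 from gD_order ▸ pow_orderOf_eq_one gD, one_pow, mul_one, mul_inv_cancel]
    rw [← e'] at ho
    have h1 : gE ^ 11 = 1 := by
      have := conj_pow (i := 11) (a := (a : J4P)⁻¹) (b := gE)
      rw [inv_inv] at this
      rw [this] at ho
      calc gE ^ 11 = (a : J4P) * ((a : J4P)⁻¹ * gE ^ 11 * a) * (a : J4P)⁻¹ := by group
        _ = 1 := by rw [ho, mul_one, mul_inv_cancel]
    rw [← orderOf_dvd_iff_pow_eq_one, gE_order] at h1
    norm_num at h1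
  rw [hj0, pow_zero, mul_one] at e'
  -- `a` normalises the group of order 23
  obtain ⟨b, hb⟩ : ∃ b, b = (a : J4P)⁻¹ := ⟨_, rfl⟩
  have hbm : b ∈ XY := hb ▸ inv_mem a.2
  have hbe : b * gE * b⁻¹ = gE ^ i := by rw [hb, inv_inv]; exact e'
  obtain ⟨i', hi'lt, hi'⟩ : ∃ i' < 23, gE ^ i = gE ^ i' :=
    ⟨i % 23, Nat.mod_lt _ (by norm_num), eq_pow_mod gE_order (Nat.mod_mod _ _).symm⟩
  rw [hi'] at hbe
  obtain ⟨t, -, ht | ht⟩ := (show ∀ k < 23, k ≠ 0 → ∃ t < 11, k = 2 ^ t % 23 ∨ k = 5 * 2 ^ t % 23 by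
    decide +kernel) i' hi'lt (fun h0 => by
      rw [h0, pow_zero, mul_inv_eq_one, mul_eq_left] at hbe
      have := gE_order
      rw [hbe, orderOf_one] at this
      norm_num at this)
  · have hcE : Commute ((gD ^ t)⁻¹ * b) gE := by
      show (gD ^ t)⁻¹ * b * gE = gE * ((gD ^ t)⁻¹ * b)
      have h2 : b * gE * b⁻¹ = gD ^ t * gE * (gD ^ t)⁻¹ := by
        rw [hbe, d_conj_pow]; exact eq_pow_mod gE_order (by omega)
      calc (gD ^ t)⁻¹ * b * gE = (gD ^ t)⁻¹ * (b * gE * b⁻¹) * b := by group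
        _ = gE * ((gD ^ t)⁻¹ * b) := by rw [h2]; group
    obtain ⟨k, hk⟩ := cent_E (mul_mem (inv_mem (pow_mem gD_mem t)) hbm) hcE
    have ha : a = (eE ^ k)⁻¹ * (dE ^ t)⁻¹ := by
      apply Subtype.ext
      show (a : J4P) = (gE ^ k)⁻¹ * (gD ^ t)⁻¹
      rw [← hk, hb]; group
    exact MulAction.mem_stabilizer_iff.1 (show a ∈ stabC secC from ha ▸
      mul_mem (inv_mem (pow_mem (stab_secC hinj).1 k)) (inv_mem (pow_mem (stab_secC hinj).2 t)))
  · exfalso
    refine no_five (m := (gD ^ t)⁻¹ * b) (mul_mem (inv_mem (pow_mem gD_mem t)) hbm) ?_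
    calc (gD ^ t)⁻¹ * b * gE * ((gD ^ t)⁻¹ * b)⁻¹ = (gD ^ t)⁻¹ * (b * gE * b⁻¹) * gD ^ t := by group
      _ = (gD ^ t)⁻¹ * ((gE ^ (2 ^ t)) ^ 5) * gD ^ t := by
        rw [hbe, ← pow_mul]
        rw [eq_pow_mod gE_order (a := i') (b := 2 ^ t * 5) (by omega)]
      _ = gE ^ 5 := by rw [← d_conj_pow, conj_pow]; group

theorem centralizer_gE {g : J4P} (hg : Commute g gE) : ∃ k, g = gE ^ k := by
  have hfix : eE ∈ stabC (g : J4P ⧸ HS) := by
    rw [mem_stabC]
    show g⁻¹ * gE * g ∈ HS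
    rw [mul_assoc, ← hg.eq, inv_mul_cancel_left]
    exact XY_le gE_mem
  rcases fixed_E hinj hc hfix with h | h
  · exact cent_H_gE hinj hc (coset_eq_base.1 h) hg
  · rw [secC, QuotientGroup.eq, ← inv_mem_iff, mul_inv_rev, inv_inv, inv_inv] at h
    obtain ⟨m, hm, e⟩ := cent_H_E hinj hc h (k := 5) (by
      calc gZ * g * gE * (gZ * g)⁻¹ = gZ * (g * gE * g⁻¹) * gZ⁻¹ := by group
        _ = gE ^ 5 := by rw [hg.eq, mul_inv_cancel_right, z_rel hinj])
    exact (no_five hm e).elim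

/-- The representatives of the cosets fixed by the element of order 11. -/
noncomputable def coreG : ℕ → J4P
  | 0 => 1
  | j + 1 => gR ^ j * gZ ^ 11 * (gR ^ j)⁻¹

omit hc in
theorem coreG_comm : ∀ j, Commute (coreG j) gD
  | 0 => Commute.one_left _
  | j + 1 => by
    have hfin : ∃ s, gD = gR ^ j * gD ^ s * (gR ^ j)⁻¹ := by
      have hcop : Nat.Coprime (6 ^ j) 11 := Nat.Coprime.pow_left j (by norm_num)
      obtain ⟨s, hs⟩ := exists_pow_eq_self_of_coprime (x := gD) (n := 6 ^ j) (by rw [gD_order]; exact hcop)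
      refine ⟨s, ?_⟩
      rw [← conj_pow, r_conj_pow, hs]
    obtain ⟨s, hs⟩ := hfin
    show gR ^ j * gZ ^ 11 * (gR ^ j)⁻¹ * gD = gD * (gR ^ j * gZ ^ 11 * (gR ^ j)⁻¹)
    have hz := ((z11_comm hinj).pow_right s).eq
    rw [hs]
    calc gR ^ j * gZ ^ 11 * (gR ^ j)⁻¹ * (gR ^ j * gD ^ s * (gR ^ j)⁻¹) = gR ^ j * (gZ ^ 11 * gD ^ s) * (gR ^ j)⁻¹ := by
          group
      _ = _ := by rw [hz]; group

theorem exists_six : ∀ k < 11, k ≠ 0 → ∃ j < 10, 6 ^ j % 11 = k := by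
  clear hinj hc
  decide

theorem fixed_D {c : J4P ⧸ HS} (h : dE ∈ stabC c) :
    c = baseC ∨ ∃ j < 10, c = ((coreG (j + 1) : J4P) : J4P ⧸ HS) := by
  have := finite_of_card hc
  rcases card_of_dvd hinj hc (p := 11) (c := c) (by rw [← dE_order]; exact (stabC c).orderOf_dvd_natCard h)
    (by decide +kernel) with h' | h'
  · exact Or.inl h'
  obtain ⟨a, rfl⟩ := orbit_of_card hinj hc (k := 253) (by decide +kernel) (card_secC hinj hc) h'
  right
  have hq : a⁻¹ * dE * a ∈ stabC secC := by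
    rw [stabC, MulAction.mem_stabilizer_iff, mul_smul, mul_smul, MulAction.mem_stabilizer_iff.1 h,
      inv_smul_smul]
  obtain ⟨i, hi, j, hj, e⟩ := secC_elements hinj hc _ hq
  have e' : (a : J4P)⁻¹ * gD * a = gE ^ i * gD ^ j := by
    simpa [eE, dE] using congrArg Subtype.val e
  have hj0 : j ≠ 0 := by
    intro h0
    rw [h0, pow_zero, mul_one] at e'
    have h1 : gD ^ 23 = 1 := by
      have h2 : ((a : J4P)⁻¹ * gD * a) ^ 23 = 1 := by
        rw [e', ← pow_mul, mul_comm, pow_mul, show gE ^ 23 = 1 from gE_order ▸ pow_orderOf_eq_one gE, one_pow]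
      have := conj_pow (i := 23) (a := (a : J4P)⁻¹) (b := gD)
      rw [inv_inv] at this
      rw [this] at h2
      calc gD ^ 23 = (a : J4P) * ((a : J4P)⁻¹ * gD ^ 23 * a) * (a : J4P)⁻¹ := by group
        _ = 1 := by rw [h2, mul_one, mul_inv_cancel]
    rw [← orderOf_dvd_iff_pow_eq_one, gD_order] at h1
    norm_num at h1
  obtain ⟨s, -, hsi⟩ := ed_solve i hi j hj hj0
  obtain ⟨b, hb⟩ : ∃ b, b = (a : J4P) * gE ^ s := ⟨_, rfl⟩
  have hbm : b ∈ XY := hb ▸ mul_mem a.2 (pow_mem gE_mem s)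
  have hcon : gE ^ s * gD ^ j * (gE ^ s)⁻¹ = gE ^ i * gD ^ j := by
    have h1 : gD ^ j * (gE ^ s)⁻¹ * (gD ^ j)⁻¹ = (gE ^ (2 ^ j * s))⁻¹ := by
      rw [pow_mul, ← d_conj_pow, conj_pow]; group
    calc gE ^ s * gD ^ j * (gE ^ s)⁻¹ = gE ^ s * (gD ^ j * (gE ^ s)⁻¹ * (gD ^ j)⁻¹) * gD ^ j := by group
      _ = gE ^ (s + (23 - 2 ^ j % 23) * s) * gD ^ j := by
        rw [h1, pow_add]
        congr 2
        rw [inv_eq_iff_mul_eq_one, ← pow_add, ← orderOf_dvd_iff_pow_eq_one, gE_order, ← add_mul]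
        refine Dvd.dvd.mul_right ?_ s
        omega
      _ = gE ^ i * gD ^ j := by
        rw [eq_pow_mod gE_order (b := i) (by rw [hsi, Nat.mod_eq_of_lt hi])]
  have hbd : b * gD ^ j * b⁻¹ = gD := by
    calc b * gD ^ j * b⁻¹ = (a : J4P) * (gE ^ s * gD ^ j * (gE ^ s)⁻¹) * (a : J4P)⁻¹ := by rw [hb]; group
      _ = gD := by rw [hcon, ← e']; group
  -- `b` maps `d` to a power
  obtain ⟨j', hj'⟩ := exists_pow_eq_self_of_coprime (x := gD) (n := j) (by
    rw [gD_order, Nat.coprime_comm, Nat.Prime.coprime_iff_not_dvd (by norm_num)]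
    exact fun hd => hj0 (Nat.eq_zero_of_dvd_of_lt hd hj))
  have hbk : b * gD * b⁻¹ = gD ^ j' := by
    have h1 : (b * gD ^ j * b⁻¹) ^ j' = gD ^ j' := by rw [hbd]
    rwa [conj_pow, hj'] at h1
  obtain ⟨k', hk'lt, hk'⟩ : ∃ k' < 11, gD ^ j' = gD ^ k' :=
    ⟨j' % 11, Nat.mod_lt _ (by norm_num), eq_pow_mod gD_order (Nat.mod_mod _ _).symm⟩
  obtain ⟨n, hn, hnk⟩ := exists_six hinj hc k' hk'lt (fun h0 => by
    rw [hk', h0, pow_zero, mul_inv_eq_one, mul_eq_left] at hbk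
    have := gD_order
    rw [hbk, orderOf_one] at this
    norm_num at this)
  have hcD : Commute ((gR ^ n)⁻¹ * b) gD := by
    show (gR ^ n)⁻¹ * b * gD = gD * ((gR ^ n)⁻¹ * b)
    have h2 : b * gD * b⁻¹ = gR ^ n * gD * (gR ^ n)⁻¹ := by
      rw [hbk, hk', r_conj_pow]; exact eq_pow_mod gD_order (by omega)
    calc (gR ^ n)⁻¹ * b * gD = (gR ^ n)⁻¹ * (b * gD * b⁻¹) * b := by group
      _ = gD * ((gR ^ n)⁻¹ * b) := by rw [h2]; group
  obtain ⟨l, hl⟩ := cent_D (mul_mem (inv_mem (pow_mem gR_mem n)) hbm) hcD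
  refine ⟨n, hn, ?_⟩
  have ha : a = (⟨gR, gR_mem⟩ : XY) ^ n * (dE ^ l * (eE ^ s)⁻¹) := by
    apply Subtype.ext
    show (a : J4P) = gR ^ n * (gD ^ l * (gE ^ s)⁻¹)
    rw [← hl, hb]; group
  have hst : dE ^ l * (eE ^ s)⁻¹ ∈ stabC secC :=
    mul_mem (pow_mem (stab_secC hinj).2 l) (inv_mem (pow_mem (stab_secC hinj).1 s))
  rw [ha, mul_smul, MulAction.mem_stabilizer_iff.1 hst, secC, smul_coset]
  show ((gR ^ n * gZ⁻¹ : J4P) : J4P ⧸ HS) = ((gR ^ n * gZ ^ 11 * (gR ^ n)⁻¹ : J4P) : J4P ⧸ HS)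
  rw [QuotientGroup.eq]
  have e3 : (gR ^ n * gZ⁻¹)⁻¹ * (gR ^ n * gZ ^ 11 * (gR ^ n)⁻¹) = gZ ^ 12 * (gR ^ n)⁻¹ := by
    rw [pow_succ' gZ 11]; group
  rw [e3]
  exact mul_mem (z12_mem hinj) (inv_mem (XY_le (pow_mem gR_mem n)))

theorem centralizer_gD {g : J4P} (hg : Commute g gD) :
    ∃ j < 11, ∃ l < 2, ∃ k < 11, g = coreG j * (aEl dFix ^ l * gD ^ k) := by
  have hfix : dE ∈ stabC (g : J4P ⧸ HS) := by
    rw [mem_stabC]
    show g⁻¹ * gD * g ∈ HS
    rw [mul_assoc, ← hg.eq, inv_mul_cancel_left]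
    exact XY_le gD_mem
  have key : ∀ j < 11, (coreG j)⁻¹ * g ∈ HS →
      ∃ j < 11, ∃ l < 2, ∃ k < 11, g = coreG j * (aEl dFix ^ l * gD ^ k) := by
    intro j hj h
    obtain ⟨l, hl, k, hk⟩ := cent_H_gD hinj hc h ((coreG_comm hinj j).inv_left.mul_left hg)
    refine ⟨j, hj, l, hl, k % 11, Nat.mod_lt _ (by norm_num), ?_⟩
    rw [eq_pow_mod gD_order (Nat.mod_mod k 11), ← hk, mul_inv_cancel_left]
  rcases fixed_D hinj hc hfix with h | ⟨j, hj, h⟩
  · refine key 0 (by norm_num) ?_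
    rw [coreG, inv_one, one_mul]
    exact coset_eq_base.1 h
  · exact key (j + 1) (by omega) (QuotientGroup.eq.1 h.symm)

theorem trio_unique {q : ℕ} (hq : q < 3795) (hx : gX⁻¹ * tP q * gX = tP q) (hw : gW⁻¹ * tP q * gW = tP q) :
    q = 0 := by
  obtain ⟨h1, e1⟩ := imgT_spec 0 (by norm_num) q hq
  obtain ⟨h2, e2⟩ := runT_spec wW lt_xy.2.2.2 q hq
  have hx' : imgT 0 q = q := tP_injective hinj hc _ h1 q hq (e1.trans hx)
  have hw' : runT wW q = q := tP_injective hinj hc _ h2 q hq (e2.trans hw)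
  have h := allF_iff.1 trio_fix q hq
  rw [hx', hw', Nat.beq_refl, Bool.not_true, Bool.or_false, Bool.or_false] at h
  exact Nat.eq_of_beq_eq_true h

theorem centralizer_L {g : J4P} (hx : Commute g gX) (hw : Commute g gW) : g = 1 ∨ g = gT := by
  have := finite_of_card hc
  have hfx : ∀ {m : XY}, Commute g (m : J4P) → m ∈ stabC (g : J4P ⧸ HS) := fun {m} hm => by
    rw [mem_stabC, mul_assoc, ← hm.eq, inv_mul_cancel_left]
    exact XY_le m.2
  have hxs : xE ∈ stabC (g : J4P ⧸ HS) := hfx hx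
  have hws : (⟨gW, gW_mem⟩ : XY) ∈ stabC (g : J4P ⧸ HS) := hfx hw
  obtain ⟨-, -, -, hwrel, hxrel, -, -⟩ := rels
  have htx : Commute gT gX := by
    show gT * gX = gX * gT
    calc gT * gX = gX * gT * (gT⁻¹ * gX⁻¹ * gT * gX) := by group
      _ = gX * gT := by rw [hxrel, mul_one]
  have htw : Commute gT gW := by
    have e : gW = wordG [1, 0, 1, 0, 2, 0, 2, 0, 1, 0, 1, 0, 1] := by
      rw [gW, wev_wordG _ lt_xy.2.2.2]
      unfold wW
      rfl
    show gT * gW = gW * gT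
    rw [e]
    calc gT * _ = wordG [1, 0, 1, 0, 2, 0, 2, 0, 1, 0, 1, 0, 1] * gT * (gT⁻¹ *
        (wordG [1, 0, 1, 0, 2, 0, 2, 0, 1, 0, 1, 0, 1])⁻¹ * gT * wordG [1, 0, 1, 0, 2, 0, 2, 0, 1, 0, 1, 0, 1]) := by
          group
      _ = _ := by rw [hwrel, mul_one]
  obtain ⟨i, hi, a, ha⟩ := node_cases hinj hc (g : J4P ⧸ HS)
  -- the orders of `x` and of its product with the other generator
  let T0 : J4P ⧸ HS := (gT : J4P ⧸ HS)
  have hT : ∀ {m : XY}, Commute gT (m : J4P) → m ∈ stabC T0 := fun {m} hm => by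
    rw [mem_stabC, mul_assoc, ← hm.eq, inv_mul_cancel_left]
    exact XY_le m.2
  let L : Subgroup XY := Subgroup.closure {xE, ⟨gW, gW_mem⟩}
  have hLg : L ≤ stabC (g : J4P ⧸ HS) := by
    rw [Subgroup.closure_le]
    rintro _ (rfl | rfl)
    · exact hxs
    · exact hws
  have hLT : L ≤ stabC T0 := by
    rw [Subgroup.closure_le]
    rintro _ (rfl | rfl)
    · exact hT htx
    · exact hT htw
  have hLcard : Nat.card L = 64512 := le_antisymm
    (by rw [← stabC_t hinj hc]; exact Subgroup.card_le_of_le hLT) card_trio_ge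
  have hd : 64512 ∣ stabOrd.getD i 0 := hi ▸ hLcard ▸ Subgroup.card_dvd_of_le hLg
  have hii : stabOrd.getD i 0 = 244823040 ∨ stabOrd.getD i 0 = 64512 :=
    (show ∀ j : Fin 20, 64512 ∣ stabOrd.getD j 0 → stabOrd.getD j 0 = 244823040 ∨ stabOrd.getD j 0 = 64512 by
      decide +kernel) i hd
  rcases hii with h | h
  · exact Or.inl (cent_H_L hinj hc (coset_eq_base.1 (eq_base hinj hc (hi.trans h))) hx hw)
  · obtain ⟨b, hb⟩ := orbit_of_card hinj hc (k := 64512) (by decide +kernel) (stabC_t hinj hc) (hi.trans h)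
    have hLeq : L = stabC T0 := Subgroup.eq_of_le_of_card_ge hLT (by rw [stabC_t hinj hc, hLcard])
    obtain ⟨q, hq, eq⟩ := (conj_tP (inv_mem b.2)).1 0 (by norm_num)
    rw [tP_zero, inv_inv] at eq
    have hfixq : ∀ {m : J4P} (hm : m ∈ XY), (⟨m, hm⟩ : XY) ∈ L → m⁻¹ * tP q * m = tP q := by
      intro m hm hmL
      have h1 : b⁻¹ * ⟨m, hm⟩ * b ∈ L := by
        rw [hLeq, stabC, MulAction.mem_stabilizer_iff, mul_smul, mul_smul]
        show b⁻¹ • (⟨m, hm⟩ : XY) • b • T0 = T0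
        rw [hb, MulAction.mem_stabilizer_iff.1 (hLg hmL), ← hb, inv_smul_smul]
      have hcT : ∀ y ∈ L, Commute gT (y : J4P) := fun y hy => by
        induction hy using Subgroup.closure_induction with
        | mem y hy => rcases hy with rfl | rfl; exacts [htx, htw]
        | one => exact Commute.one_right _
        | mul y z _ _ ihy ihz => exact ihy.mul_right ihz
        | inv y _ ihy => exact ihy.inv_right
      have h2 : gT * ((b : J4P)⁻¹ * m * b) = (b : J4P)⁻¹ * m * b * gT := hcT _ h1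
      rw [← eq]
      calc m⁻¹ * ((b : J4P) * gT * (b : J4P)⁻¹) * m = m⁻¹ * b * (gT * ((b : J4P)⁻¹ * m * b)) * (b : J4P)⁻¹ := by group
        _ = (b : J4P) * gT * (b : J4P)⁻¹ := by rw [h2]; group
    have hq0 : q = 0 := trio_unique hinj hc hq
      (hfixq xE.2 (Subgroup.subset_closure (Or.inl rfl))) (hfixq gW_mem (Subgroup.subset_closure (Or.inr rfl)))
    rw [hq0, tP_zero] at eq
    have hbt : b ∈ stabC T0 := hT (show gT * (b : J4P) = b * gT by
      calc gT * (b : J4P) = (b : J4P) * gT * (b : J4P)⁻¹ * b := by rw [eq]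
        _ = _ := by group)
    rw [MulAction.mem_stabilizer_iff.1 hbt] at hb
    right
    have hm : gT⁻¹ * g ∈ HS := QuotientGroup.eq.1 hb
    have := cent_H_L hinj hc hm (htx.inv_left.mul_left hx) (htw.inv_left.mul_left hw)
    exact (inv_mul_eq_one.1 this).symm

end

end CfsgLib.Sporadic.J4Aut
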