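import Cfsg.Agent.Lib.Sporadic.J4Aut.Orbits
import Cfsg.Agent.Lib.Sporadic.J4Aut.MatChecks

/-!
# Centralisers of an element of order 23, one of order 11 and of the trio stabiliser
-/

set_option autoImplicit false
set_option maxRecDepth 100000

namespace CfsgLib.Sporadic.J4Aut

open Cfsg Cfsg.Spor CfsgLib.Sporadic.CosetCert.J4M24 CfsgLib.Sporadic.CosetCert.J4Index
  CfsgLib.Sporadic.J4Rep
open CfsgLib.Sporadic.OutCert (lk allF allF_iff)

attribute [local irreducible] wordP idP sameW sameP eW dW rW zW wW eMap dMap wMap dFix centOK appW app aEl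
  basM actX actY actYi powW imgT runT xyImg wT

theorem lt_xy : (∀ a ∈ eW, a < 3) ∧ (∀ a ∈ dW, a < 3) ∧ (∀ a ∈ rW, a < 3) ∧ (∀ a ∈ wW, a < 3) := by
  have h := in_xy
  simp only [List.all_cons, List.all_nil, Bool.and_eq_true, Bool.and_true, List.all_eq_true, Nat.blt_eq] at h
  exact h

/-- The element of order 23. -/
noncomputable def gE : J4P := wev eW
/-- The element inducing a generator of its automorphisms. -/
noncomputable def gZ : J4P := wev zW
/-- The element of order 11. -/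
noncomputable def gD : J4P := wev dW
/-- The element inducing a generator of its automorphisms. -/
noncomputable def gR : J4P := wev rW
/-- The second generator of the trio stabiliser. -/
noncomputable def gW : J4P := wev wW

theorem gE_mem : gE ∈ XY := wev_mem_XY lt_xy.1
theorem gD_mem : gD ∈ XY := wev_mem_XY lt_xy.2.1
theorem gR_mem : gR ∈ XY := wev_mem_XY lt_xy.2.2.1
theorem gW_mem : gW ∈ XY := wev_mem_XY lt_xy.2.2.2

theorem powW_lt {L : List ℕ} (h : ∀ a ∈ L, a < 3) (n : ℕ) : ∀ a ∈ powW L n, a < 3 := by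
  intro a ha
  unfold powW at ha
  obtain ⟨l, hl, hal⟩ := List.mem_flatten.1 ha
  rw [List.eq_of_mem_replicate hl] at hal
  exact h a hal

theorem wev_powW (L : List ℕ) (n : ℕ) : wev (powW L n) = wev L ^ n := by
  unfold powW
  exact wev_power L n

theorem append_lt {L M : List ℕ} (hL : ∀ a ∈ L, a < 3) (hM : ∀ a ∈ M, a < 3) : ∀ a ∈ L ++ M, a < 3 :=
  fun a ha => (List.mem_append.1 ha).elim (hL a) (hM a)

theorem wordP_nil : wordP [] = idP := by unfold wordP; rfl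

theorem ne_one_of_perm {L : List ℕ} (hL : ∀ a ∈ L, a < 3) {i : ℕ} (hi : i < 24)
    (h : lk 5 (wordP L) i ≠ i) : wev L ≠ 1 := by
  intro e
  refine h ?_
  have h1 := el_inj ⟨_, pr_wev hL⟩ good_id (by rw [(pr_wev hL).el_eq, el_id, e]) hi
  rwa [lk_id hi] at h1

theorem moved : lk 5 (wordP eW) 0 ≠ 0 ∧ lk 5 (wordP dW) 0 ≠ 0 := by decide +kernel

theorem gE_order : orderOf gE = 23 := by
  have : Fact (Nat.Prime 23) := ⟨by norm_num⟩
  refine orderOf_eq_prime ?_ (ne_one_of_perm lt_xy.1 (by norm_num) moved.1)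
  rw [gE, ← wev_powW, ← wev_nil]
  exact wev_eq_of_perm (powW_lt lt_xy.1 23) (by simp)
    ((Nat.eq_of_beq_eq_true e_order.1).trans wordP_nil.symm)

theorem gD_order : orderOf gD = 11 := by
  have : Fact (Nat.Prime 11) := ⟨by norm_num⟩
  refine orderOf_eq_prime ?_ (ne_one_of_perm lt_xy.2.1 (by norm_num) moved.2)
  rw [gD, ← wev_powW, ← wev_nil]
  exact wev_eq_of_perm (powW_lt lt_xy.2.1 11) (by simp)
    ((Nat.eq_of_beq_eq_true d_order.1).trans wordP_nil.symm)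

theorem de_rel : gD * gE * gD⁻¹ = gE ^ 2 := by
  have h := wev_eq_of_perm (append_lt lt_xy.2.1 lt_xy.1) (append_lt (powW_lt lt_xy.1 2) lt_xy.2.1)
    (Nat.eq_of_beq_eq_true de_conj)
  rw [wev_append, wev_append, wev_powW] at h
  rw [gD, gE, h, mul_inv_cancel_right]

theorem rd_rel : gR * gD * gR⁻¹ = gD ^ 6 := by
  have h := wev_eq_of_perm (append_lt lt_xy.2.2.1 lt_xy.2.1) (append_lt (powW_lt lt_xy.2.1 6) lt_xy.2.2.1)
    (Nat.eq_of_beq_eq_true r_conj)
  rw [wev_append, wev_append, wev_powW] at h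
  rw [gR, gD, h, mul_inv_cancel_right]

theorem d_conj_pow (j : ℕ) : gD ^ j * gE * (gD ^ j)⁻¹ = gE ^ (2 ^ j) := by
  induction j with
  | zero => simp
  | succ j ih =>
    calc gD ^ (j + 1) * gE * (gD ^ (j + 1))⁻¹ = gD * (gD ^ j * gE * (gD ^ j)⁻¹) * gD⁻¹ := by
          rw [pow_succ']; group
      _ = (gD * gE * gD⁻¹) ^ (2 ^ j) := by rw [ih, conj_pow]
      _ = gE ^ (2 ^ (j + 1)) := by rw [de_rel, ← pow_mul, pow_succ']

theorem r_conj_pow (j : ℕ) : gR ^ j * gD * (gR ^ j)⁻¹ = gD ^ (6 ^ j) := by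
  induction j with
  | zero => simp
  | succ j ih =>
    calc gR ^ (j + 1) * gD * (gR ^ (j + 1))⁻¹ = gR * (gR ^ j * gD * (gR ^ j)⁻¹) * gR⁻¹ := by
          rw [pow_succ']; group
      _ = (gR * gD * gR⁻¹) ^ (6 ^ j) := by rw [ih, conj_pow]
      _ = gD ^ (6 ^ (j + 1)) := by rw [rd_rel, ← pow_mul, pow_succ']

theorem cent_E {m : J4P} (hm : m ∈ XY) (h : Commute m gE) : ∃ k, m = gE ^ k := by
  refine cent_spec (K := {b | ∃ k, b = gE ^ k}) (G := fun _ => gE) cent_e (fun g hg => ?_) ?_ hm fun _ _ => h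
  · rw [show g = 0 by simpa using hg]
    exact pr_wev lt_xy.1
  · intro a ha
    obtain ⟨k, -, rfl⟩ := List.mem_map.1 ha
    exact ⟨gE ^ k, ⟨k, rfl⟩, by rw [gE, ← wev_powW]; exact pr_wev (powW_lt lt_xy.1 k)⟩

theorem cent_D {m : J4P} (hm : m ∈ XY) (h : Commute m gD) : ∃ k, m = gD ^ k := by
  refine cent_spec (K := {b | ∃ k, b = gD ^ k}) (G := fun _ => gD) cent_d (fun g hg => ?_) ?_ hm fun _ _ => h
  · rw [show g = 0 by simpa using hg]
    exact pr_wev lt_xy.2.1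
  · intro a ha
    obtain ⟨k, -, rfl⟩ := List.mem_map.1 ha
    exact ⟨gD ^ k, ⟨k, rfl⟩, by rw [gD, ← wev_powW]; exact pr_wev (powW_lt lt_xy.2.1 k)⟩

theorem cent_L {m : J4P} (hm : m ∈ XY) (hx : Commute m gX) (hw : Commute m gW) : m = 1 := by
  refine cent_spec (K := {1}) (G := fun g => [gX, gW].getD g 1) cent_l (fun g hg => ?_) ?_ hm fun g hg => ?_
  · rcases (show g = 0 ∨ g = 1 by simp at hg; omega) with rfl | rfl
    · have := pr_wev (L := [0]) (by simp)
      simpa [wev, letG] using this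
    · simpa [gW] using pr_wev lt_xy.2.2.2
  · intro a ha
    rw [List.mem_singleton] at ha
    subst ha
    exact ⟨1, rfl, by rw [← wev_nil]; exact pr_wev (by simp)⟩
  · rcases (show g = 0 ∨ g = 1 by simp at hg; omega) with rfl | rfl
    · exact hx
    · exact hw

theorem two_pow_not : ∀ t < 11, 2 ^ t % 23 ≠ 22 := by decide

theorem twist_solve : ∀ i < 23, ((2 * i) * 12 + i) % 23 = (2 * i) % 23 := by decide

theorem eq_pow_mod {g : J4P} {n a b : ℕ} (hn : orderOf g = n) (h : a % n = b % n) : g ^ a = g ^ b := by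
  rw [pow_eq_pow_iff_modEq, hn]
  exact h

/-- No element of `⟨x, y⟩` raises the element of order 23 to a non-square power. -/
theorem no_five {m : J4P} (hm : m ∈ XY) (h : m * gE * m⁻¹ = gE ^ 5) : False := by
  have hj : ∀ j : ℕ, m ^ j * gE * (m ^ j)⁻¹ = gE ^ (5 ^ j) := by
    intro j
    induction j with
    | zero => simp
    | succ j ih =>
      calc m ^ (j + 1) * gE * (m ^ (j + 1))⁻¹ = m * (m ^ j * gE * (m ^ j)⁻¹) * m⁻¹ := by rw [pow_succ']; group
        _ = (m * gE * m⁻¹) ^ (5 ^ j) := by rw [ih, conj_pow]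
        _ = gE ^ (5 ^ (j + 1)) := by rw [h, ← pow_mul, pow_succ']
  obtain ⟨q, hq⟩ : ∃ q, q = m ^ 11 := ⟨_, rfl⟩
  have hqm : q ∈ XY := hq ▸ pow_mem hm 11
  have hinv : q * gE * q⁻¹ = gE⁻¹ := by
    rw [hq, hj 11, eq_inv_iff_mul_eq_one, ← pow_succ, ← orderOf_dvd_iff_pow_eq_one, gE_order]
    norm_num
  have hDinv : gD⁻¹ * gE * gD = gE ^ 12 := by
    have e : gD * gE ^ 12 * gD⁻¹ = gE := by
      rw [← conj_pow, de_rel, ← pow_mul]
      rw [eq_pow_mod gE_order (a := 2 * 12) (b := 1) rfl, pow_one]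
    calc gD⁻¹ * gE * gD = gD⁻¹ * (gD * gE ^ 12 * gD⁻¹) * gD := by rw [e]
      _ = gE ^ 12 := by group
  obtain ⟨c, hcd⟩ : ∃ c, c = gD⁻¹ * q * gD * q⁻¹ := ⟨_, rfl⟩
  have hcm : c ∈ XY := hcd ▸ mul_mem (mul_mem (mul_mem (inv_mem gD_mem) hqm) gD_mem) (inv_mem hqm)
  have hq' : q⁻¹ * gE * q = gE⁻¹ := by
    calc q⁻¹ * gE * q = (q⁻¹ * (q * gE * q⁻¹) * q)⁻¹ := by rw [hinv]; group
      _ = gE⁻¹ := by group
  have hcc : Commute c gE := by
    show c * gE = gE * c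
    have e1 : c * gE * c⁻¹ = gE := by
      calc c * gE * c⁻¹ = gD⁻¹ * (q * (gD * (q⁻¹ * gE * q) * gD⁻¹) * q⁻¹) * gD := by rw [hcd]; group
        _ = gD⁻¹ * ((q * gE * q⁻¹) ^ 2)⁻¹ * gD := by
          rw [hq', show gD * gE⁻¹ * gD⁻¹ = (gD * gE * gD⁻¹)⁻¹ by group, de_rel, conj_pow]; group
        _ = gD⁻¹ * gE ^ 2 * gD := by rw [hinv]; group
        _ = gE := by rw [← de_rel]; group
    calc c * gE = c * gE * c⁻¹ * c := by group
      _ = gE * c := by rw [e1]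
  obtain ⟨i, hi⟩ := cent_E hcm hcc
  obtain ⟨i', hi'lt, hi'⟩ : ∃ i' < 23, gE ^ i = gE ^ i' :=
    ⟨i % 23, Nat.mod_lt _ (by norm_num), eq_pow_mod gE_order (Nat.mod_mod _ _).symm⟩
  obtain ⟨p, hp⟩ : ∃ p, p = gE ^ (2 * i') * q := ⟨_, rfl⟩
  have hpc : Commute p gD := by
    have e : gD⁻¹ * p * gD = p := by
      calc gD⁻¹ * p * gD = (gD⁻¹ * gE * gD) ^ (2 * i') * (c * q) := by
            have h6 := conj_pow (i := 2 * i') (a := gD⁻¹) (b := gE)
            rw [inv_inv] at h6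
            rw [h6, hp, hcd]; group
        _ = gE ^ (12 * (2 * i') + i') * q := by rw [hDinv, hi, hi', ← pow_mul, pow_add, mul_assoc]
        _ = p := by
            rw [hp, eq_pow_mod gE_order (b := 2 * i') (by rw [mul_comm 12]; exact twist_solve i' hi'lt)]
    show p * gD = gD * p
    calc p * gD = gD * (gD⁻¹ * p * gD) := by group
      _ = gD * p := by rw [e]
  obtain ⟨t, ht⟩ := cent_D (hp ▸ mul_mem (pow_mem gE_mem _) hqm) hpc
  have h1 : p * gE * p⁻¹ = gE⁻¹ := by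
    rw [hp]
    calc gE ^ (2 * i') * q * gE * (gE ^ (2 * i') * q)⁻¹ = gE ^ (2 * i') * (q * gE * q⁻¹) * (gE ^ (2 * i'))⁻¹ := by
          group
      _ = gE⁻¹ := by rw [hinv]; group
  rw [ht, ← eq_pow_mod gD_order (Nat.mod_mod t 11), d_conj_pow, eq_inv_iff_mul_eq_one, ← pow_succ,
    ← orderOf_dvd_iff_pow_eq_one, gE_order] at h1
  exact two_pow_not (t % 11) (Nat.mod_lt _ (by norm_num)) (by omega)

section
variable (hinj : Function.Injective rep) (hc : CardJ4)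
include hinj hc

theorem split_conj {h q : J4P} (hh : h ∈ HS) (hq : q ∈ XY) {q' : J4P} (hq' : q' ∈ XY)
    (he : h * q * h⁻¹ = q') :
    ∃ c < 2048, ∃ m ∈ XY, h = aEl c * m ∧ m * q * m⁻¹ = q' ∧ q' * aEl c * q'⁻¹ = aEl c := by
  obtain ⟨c, m, hm, rfl⟩ := exists_decomp hinj hh
  refine ⟨c % 2048, Nat.mod_lt _ (by norm_num), m, hm, ?_, ?_⟩
  · rw [aEl, aEl, aK_mod c 11 le_rfl]
  obtain ⟨L, hL, hLq⟩ := exists_word hq'
  have hac : aEl (c % 2048) = aEl c := by rw [aEl, aEl, aK_mod c 11 le_rfl]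
  have ha := conj_word hinj L hL c
  rw [hLq] at ha
  have e : aEl c * (m * q * m⁻¹) = aEl (appW L c) * q' := by
    rw [← ha]
    calc aEl c * (m * q * m⁻¹) = (aEl c * m * q * (aEl c * m)⁻¹) * aEl c := by group
      _ = _ := by rw [he]; group
  have hd : aEl (appW L c % 2048) = aEl (appW L c) := by rw [aEl, aEl, aK_mod _ 11 le_rfl]
  rw [← hd, ← hac] at e
  obtain ⟨e1, e2⟩ := (exact_facts hinj hc).2 _ _ _ _ (Nat.mod_lt _ (by norm_num)) (Nat.mod_lt _ (by norm_num))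
    (mul_mem (mul_mem hm hq) (inv_mem hm)) hq' e
  refine ⟨e2, ?_⟩
  rw [hac, ha, ← hd, ← e1, hac]

theorem fixed_vec {L M : List ℕ} (hL : ∀ a ∈ L, a < 3)
    (h : allF (fun i => Nat.beq (appW L (2 ^ i)) (M.getD i 0)) 11 = true) {c : ℕ} (hc' : c < 2048)
    (hb : app M c < 2048) (e : wev L * aEl c * (wev L)⁻¹ = aEl c) : app M c = c := by
  have hs := acts_word hinj hL (M := M) fun i hi => Nat.eq_of_beq_eq_true (allF_iff.1 h i hi)
  rw [hs c] at e
  exact ((exact_facts hinj hc).2 _ _ 1 1 hb hc' (one_mem _) (one_mem _) (by rw [e])).1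

theorem app_lt {M : List ℕ} (hM : ∀ a ∈ M, a < 2048) (c : ℕ) : app M c < 2048 := by
  unfold app
  suffices ∀ k, appK M c k < 2048 from this 11
  intro k
  induction k with
  | zero => simp [appK]
  | succ k ih =>
    rw [appK]
    refine Nat.xor_lt_two_pow (n := 11) ih ?_
    split
    · rcases getD_mem_or M k 0 with h | h
      · exact hM _ h
      · rw [h]; norm_num
    · norm_num

theorem map_bounds : (∀ a ∈ eMap, a < 2048) ∧ (∀ a ∈ dMap, a < 2048) ∧ (∀ a ∈ actX, a < 2048) ∧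
    ∀ a ∈ wMap, a < 2048 := by decide +kernel

theorem cent_H_E {h : J4P} (hh : h ∈ HS) {k : ℕ} (he : h * gE * h⁻¹ = gE ^ k) :
    ∃ m ∈ XY, m * gE * m⁻¹ = gE ^ k := by
  obtain ⟨c, -, m, hm, -, h2, -⟩ := split_conj hinj hc hh gE_mem (pow_mem gE_mem k) he
  exact ⟨m, hm, h2⟩

theorem cent_H_gE {h : J4P} (hh : h ∈ HS) (he : Commute h gE) : ∃ k, h = gE ^ k := by
  obtain ⟨c, hc', m, hm, rfl, h2, h3⟩ := split_conj hinj hc hh gE_mem gE_mem
    (by rw [he.eq, mul_inv_cancel_right])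
  have hb := app_lt hinj hc (map_bounds hinj hc).1 c
  have hfix := fixed_vec hinj hc lt_xy.1 map_e hc' hb h3
  have h0 := allF_iff.1 fix_e c hc'
  rw [hfix, Nat.beq_refl, Bool.not_true, Bool.false_or] at h0
  rw [Nat.eq_of_beq_eq_true h0, aEl_zero hinj, one_mul]
  exact cent_E hm (mul_inv_eq_iff_eq_mul.1 h2)

theorem cent_H_gD {h : J4P} (hh : h ∈ HS) (he : Commute h gD) :
    ∃ l < 2, ∃ k, h = aEl dFix ^ l * gD ^ k := by
  obtain ⟨c, hc', m, hm, rfl, h2, h3⟩ := split_conj hinj hc hh gD_mem gD_mem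
    (by rw [he.eq, mul_inv_cancel_right])
  have hb := app_lt hinj hc (map_bounds hinj hc).2.1 c
  have hfix := fixed_vec hinj hc lt_xy.2.1 map_d hc' hb h3
  have h0 := allF_iff.1 fix_d c hc'
  rw [hfix, Nat.beq_refl, Bool.not_true, Bool.false_or, Bool.or_eq_true] at h0
  obtain ⟨k, hk⟩ := cent_D hm (mul_inv_eq_iff_eq_mul.1 h2)
  rcases h0 with h0 | h0
  · exact ⟨0, by norm_num, k, by rw [Nat.eq_of_beq_eq_true h0, aEl_zero hinj, one_mul, pow_zero, one_mul, hk]⟩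
  · exact ⟨1, by norm_num, k, by rw [Nat.eq_of_beq_eq_true h0, pow_one, hk]⟩

theorem cent_H_L {h : J4P} (hh : h ∈ HS) (hx : Commute h gX) (hw : Commute h gW) : h = 1 := by
  have hX : gX ∈ XY := Subgroup.subset_closure (Or.inl rfl)
  obtain ⟨c, hc', m, hm, rfl, h2, h3⟩ := split_conj hinj hc hh hX hX (by rw [hx.eq, mul_inv_cancel_right])
  obtain ⟨d, hd', n, hn, e, h2', h3'⟩ := split_conj hinj hc hh gW_mem gW_mem (by rw [hw.eq, mul_inv_cancel_right])
  obtain ⟨rfl, rfl⟩ := (exact_facts hinj hc).2 _ _ _ _ hc' hd' hm hn e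
  have hb := app_lt hinj hc (map_bounds hinj hc).2.2.1 c
  have hb' := app_lt hinj hc (map_bounds hinj hc).2.2.2 c
  have hfx : app actX c = c := by
    have hs := (acts_let hinj).1
    have e3 := h3
    rw [hs c] at e3
    exact ((exact_facts hinj hc).2 _ _ 1 1 hb hc' (one_mem _) (one_mem _) (by rw [e3])).1
  have hfw := fixed_vec hinj hc lt_xy.2.2.2 map_w hc' hb' h3'
  have h0 := allF_iff.1 fix_l c hc'
  rw [hfx, hfw, Nat.beq_refl, Bool.and_self, Bool.not_true, Bool.false_or] at h0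
  rw [Nat.eq_of_beq_eq_true h0, aEl_zero hinj, one_mul]
  exact cent_L hm (mul_inv_eq_iff_eq_mul.1 h2) (mul_inv_eq_iff_eq_mul.1 h2')

end

end CfsgLib.Sporadic.J4Aut
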