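import Cfsg.Agent.Lib.Sporadic.J4Aut.CandCheck
import Cfsg.Agent.Lib.Sporadic.J4Aut.Central
import Cfsg.Agent.Lib.Sporadic.J4Index.Simple
import Cfsg.Prelude.Def_KGroupFacts

/-!
# Every automorphism of the presented fourth Janko group is inner

After an inner automorphism an automorphism fixes `e`, `z` and `d = z²`; it maps `r` to `r` times an element of
the centraliser of `d`, and one relation leaves only the identity. So it fixes `x, y`, hence also `t`.
-/

set_option autoImplicit false
set_option maxRecDepth 100000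

namespace CfsgLib.Sporadic.J4Aut

open Cfsg Cfsg.Spor CfsgLib.Sporadic.CosetCert.J4M24 CfsgLib.Sporadic.CosetCert.J4Index
  CfsgLib.Sporadic.J4Rep CfsgLib.Sporadic.BitMatrix

attribute [local irreducible] sameP sameW wordP zW dW rW eW zM z11M dM rM riM aM qM candL candR powW cW
  xER dFix

theorem gE_five : ∀ k < 23, k ≠ 0 → ∃ m < 22, 5 ^ m * k % 23 = 1 := by decide +kernel

theorem z_conj_pow (hinj : Function.Injective rep) (m : ℕ) : gZ ^ m * gE * (gZ ^ m)⁻¹ = gE ^ (5 ^ m) := by
  induction m with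
  | zero => simp
  | succ m ih =>
    calc gZ ^ (m + 1) * gE * (gZ ^ (m + 1))⁻¹ = gZ * (gZ ^ m * gE * (gZ ^ m)⁻¹) * gZ⁻¹ := by rw [pow_succ']; group
      _ = (gZ * gE * gZ⁻¹) ^ (5 ^ m) := by rw [ih, conj_pow]
      _ = gE ^ (5 ^ (m + 1)) := by rw [z_rel hinj, ← pow_mul, pow_succ']

theorem card_factor : ¬ 23 ^ 2 ∣ 86775571046077562880 := by decide +kernel

/-- Up to an inner automorphism the element of order 23 is fixed. -/
theorem fix_E (α : MulAut J4P) : ∃ g : J4P, (MulAut.conj g * α) gE = gE := by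
  have := finite_J4P
  have hinj := CfsgLib.Sporadic.CosetCert.J4Index.rep_injective
  have : Fact (Nat.Prime 23) := ⟨by norm_num⟩
  let P := Subgroup.zpowers gE
  let Q := Subgroup.zpowers (α gE)
  have ho : orderOf (α gE) = 23 := (orderOf_injective α.toMonoidHom α.injective gE).trans gE_order
  have hfac : (Nat.card J4P).factorization 23 = 1 := by
    rw [card_J4P_eq]
    refine le_antisymm ?_ ?_
    · by_contra hlt
      refine card_factor ?_
      rw [Nat.Prime.pow_dvd_iff_le_factorization (by norm_num) (by norm_num)]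
      omega
    · rw [← Nat.Prime.pow_dvd_iff_le_factorization (by norm_num) (by norm_num)]
      norm_num
  let S : Sylow 23 J4P := Sylow.ofCard P (by rw [Nat.card_zpowers, gE_order, hfac, pow_one])
  let S' : Sylow 23 J4P := Sylow.ofCard Q (by rw [Nat.card_zpowers, ho, hfac, pow_one])
  obtain ⟨g, hg⟩ := MulAction.exists_smul_eq J4P S' S
  have hmem : g * α gE * g⁻¹ ∈ P := by
    have h1 : (MulAut.conj g • α gE) ∈ (g • S' : Sylow 23 J4P).toSubgroup :=
      Subgroup.smul_mem_pointwise_smul (α gE) (MulAut.conj g) Q (Subgroup.mem_zpowers _)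
    rw [hg] at h1
    exact h1
  rw [← mem_powers_iff_mem_zpowers, Submonoid.mem_powers_iff] at hmem
  obtain ⟨k, hk⟩ := hmem
  have hk0 : k % 23 ≠ 0 := by
    intro h0
    have : g * α gE * g⁻¹ = 1 := by rw [← hk, eq_pow_mod gE_order (b := 0) h0, pow_zero]
    rw [mul_inv_eq_one, mul_eq_left] at this
    rw [this, orderOf_one] at ho
    norm_num at ho
  obtain ⟨m, -, hm⟩ := gE_five (k % 23) (Nat.mod_lt _ (by norm_num)) hk0
  refine ⟨gZ ^ m * g, ?_⟩
  rw [MulAut.mul_apply, MulAut.conj_apply]
  calc gZ ^ m * g * α gE * (gZ ^ m * g)⁻¹ = gZ ^ m * (g * α gE * g⁻¹) * (gZ ^ m)⁻¹ := by group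
    _ = (gZ ^ m * gE * (gZ ^ m)⁻¹) ^ k := by rw [← hk, conj_pow]
    _ = gE := by
      rw [z_conj_pow hinj, ← pow_mul]
      refine (eq_pow_mod gE_order (b := 1) ?_).trans (pow_one _)
      rw [Nat.mul_mod, Nat.mul_mod] at hm ⊢
      simpa [Nat.mod_mod] using hm

theorem shift_solve : ∀ i < 23, ∃ k < 23, (5 * k + 22 * (i * 5) + 22 * k) % 23 = 0 := by decide +kernel

/-- Up to an inner automorphism `e` and `z` are fixed. -/
theorem fix_EZ (α : MulAut J4P) : ∃ g : J4P, (MulAut.conj g * α) gE = gE ∧ (MulAut.conj g * α) gZ = gZ := by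
  have hinj := CfsgLib.Sporadic.CosetCert.J4Index.rep_injective
  obtain ⟨g, hg⟩ := fix_E α
  obtain ⟨β, hβ⟩ : ∃ β, β = MulAut.conj g * α := ⟨_, rfl⟩
  rw [← hβ] at hg
  have hc : Commute (gZ⁻¹ * β gZ) gE := by
    have h1 : β gZ * gE * (β gZ)⁻¹ = gE ^ 5 := by
      have h := congrArg β (z_rel hinj)
      rwa [map_mul, map_mul, map_inv, map_pow, hg] at h
    show gZ⁻¹ * β gZ * gE = gE * (gZ⁻¹ * β gZ)
    calc gZ⁻¹ * β gZ * gE = gZ⁻¹ * (β gZ * gE * (β gZ)⁻¹) * β gZ := by group
      _ = gZ⁻¹ * (gZ * gE * gZ⁻¹) * β gZ := by rw [h1, z_rel hinj]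
      _ = gE * (gZ⁻¹ * β gZ) := by group
  obtain ⟨i, hi⟩ := centralizer_gE hinj card_J4P_eq hc
  obtain ⟨k, -, hk⟩ := shift_solve (i % 23) (Nat.mod_lt _ (by norm_num))
  refine ⟨gE ^ k * g, ?_, ?_⟩ <;> rw [map_mul, mul_assoc, ← hβ, MulAut.mul_apply, MulAut.conj_apply]
  · rw [hg, (Commute.refl gE).pow_left k |>.eq, mul_inv_cancel_right]
  · have hz : β gZ = gZ * gE ^ i := eq_mul_of_inv_mul_eq hi
    have hmove : ∀ n, gZ * gE ^ n = gE ^ (5 * n) * gZ := fun n => by
      rw [pow_mul, ← z_rel hinj, conj_pow]; group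
    rw [hz, hmove, ← mul_assoc, ← pow_add, mul_assoc]
    have e : gZ * (gE ^ k)⁻¹ = gE ^ (5 * (22 * k)) * gZ := by
      rw [← hmove]
      congr 1
      rw [inv_eq_iff_mul_eq_one, ← pow_add, ← orderOf_dvd_iff_pow_eq_one, gE_order]
      omega
    rw [e, ← mul_assoc, ← pow_add]
    conv_rhs => rw [← one_mul gZ]
    congr 1
    rw [← orderOf_dvd_iff_pow_eq_one, gE_order]
    omega

theorem mats_spec :
    IsMat zM gZ ∧ IsMat dM gD ∧ IsMat rM gR ∧ IsMat riM gR⁻¹ ∧ IsMat aM (aEl dFix) ∧
      IsMat qM (gE ^ 6 * gZ * gR) ∧ IsMat z11M (gZ ^ 11) := by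
  have hinj := CfsgLib.Sporadic.CosetCert.J4Index.rep_injective
  have ho := mats_ok
  simp only [List.all_cons, List.all_nil, Bool.and_eq_true, Bool.and_true] at ho
  obtain ⟨o1, o2, o3, o4, o5, o6, o7⟩ := ho
  have hw := mats_word
  simp only [Bool.and_eq_true] at hw
  obtain ⟨w1, w2, w3, w4, w5, w6, w7⟩ := hw
  have hz : IsMat zM gZ := isMat_word o1 w1
  refine ⟨hz, isMat_word o3 w3, isMat_word o4 w4, ?_, ?_, ?_, ?_⟩
  · have := isMat_word o5 w5
    rwa [wev_winv] at this
  · have := isMat_word o6 w6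
    rwa [wev_cW] at this
  · have := isMat_word o7 w7
    rwa [wev_append, wev_append, wev_powW] at this
  · refine ⟨o2, ?_⟩
    have h := (sameP_iff (L := [z11M]) (M := List.replicate 11 zM) (by simpa using o2)
      (fun B hB => by rw [List.eq_of_mem_replicate hB]; exact hz.1)).1 w2
    have h2 := rep_prod (l := List.replicate 11 (zM, gZ)) (fun p hp => by rw [List.eq_of_mem_replicate hp]; exact hz)
    simp only [List.map_replicate, List.prod_replicate, List.map_cons, List.map_nil, List.prod_singleton] at h h2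
    rw [h2, h]

theorem isMat_prod {l : List (List ℕ × J4P)} {A : List ℕ} (hl : ∀ p ∈ l, IsMat p.1 p.2) (hA : ok 112 A = true)
    (h : sameP [A] (l.map Prod.fst) = true) : IsMat A (l.map Prod.snd).prod := by
  refine ⟨hA, ?_⟩
  rw [rep_prod hl]
  have := (sameP_iff (L := [A]) (M := l.map Prod.fst) (by simpa using hA) (fun B hB => by
    obtain ⟨p, hp, rfl⟩ := List.mem_map.1 hB
    exact (hl p hp).1)).1 h
  simpa using this.symm

theorem candL_spec : ∀ j < 11, IsMat (candL.getD j []) (gE ^ 6 * gZ * gR * coreG j) := by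
  intro j hj
  obtain ⟨hz, hd, hr, hri, ha, hq, hz11⟩ := mats_spec
  have h := List.all_eq_true.1 candL_ok j (List.mem_range.2 hj)
  simp only [Bool.and_eq_true] at h
  obtain ⟨hok, hs⟩ := h
  match j with
  | 0 =>
    have := isMat_prod (l := [(qM, gE ^ 6 * gZ * gR)]) (by simpa using hq) hok (by simpa [coreL] using hs)
    simpa [coreG] using this
  | i + 1 =>
    have := isMat_prod (l := (qM, gE ^ 6 * gZ * gR) :: (List.replicate i (rM, gR) ++ [(z11M, gZ ^ 11)] ++
        List.replicate i (riM, gR⁻¹))) (by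
      intro p hp
      simp only [List.mem_cons, List.mem_append, List.not_mem_nil, or_false] at hp
      rcases hp with rfl | (hp | rfl) | hp
      · exact hq
      · rw [List.eq_of_mem_replicate hp]; exact hr
      · exact hz11
      · rw [List.eq_of_mem_replicate hp]; exact hri) hok (by simpa [coreL] using hs)
    simpa [coreG, mul_assoc, inv_pow] using this

theorem candR_spec : ∀ l < 2, ∀ k < 11, IsMat (candR.getD (11 * l + k) []) (aEl dFix ^ l * gD ^ k) := by
  intro l hl k hk
  obtain ⟨hz, hd, hr, hri, ha, hq, hz11⟩ := mats_spec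
  have h := List.all_eq_true.1 candR_ok (11 * l + k) (List.mem_range.2 (by omega))
  simp only [Bool.and_eq_true] at h
  obtain ⟨hok, hs⟩ := h
  rw [show (11 * l + k) / 11 = l by omega, show (11 * l + k) % 11 = k by omega] at hs
  have := isMat_prod (l := List.replicate l (aM, aEl dFix) ++ List.replicate k (dM, gD)) (by
    intro p hp
    rcases List.mem_append.1 hp with hp | hp <;> rw [List.eq_of_mem_replicate hp]
    exacts [ha, hd]) hok (by simpa [coreR] using hs)
  simpa using this

/-- Only the identity passes the test. -/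
theorem cand_unique {j l k : ℕ} (hj : j < 11) (hl : l < 2) (hk : k < 11)
    (h8 : (gE ^ 6 * gZ * gR * (coreG j * (aEl dFix ^ l * gD ^ k))) ^ 8 = 1)
    (h4 : (gE ^ 6 * gZ * gR * (coreG j * (aEl dFix ^ l * gD ^ k))) ^ 4 ≠ 1) : j = 0 ∧ l = 0 ∧ k = 0 := by
  have hinj := CfsgLib.Sporadic.CosetCert.J4Index.rep_injective
  obtain ⟨i, hi⟩ : ∃ i, i = 11 * l + k := ⟨_, rfl⟩
  have hC := candL_spec j hj
  have hB := hi ▸ candR_spec l hl k hk
  by_contra hne
  have hfail : failsAt j i = true := by
    rcases Nat.lt_or_ge (22 * j + i) 121 with hlt | hge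
    · have h := List.all_eq_true.1 fails0 (22 * j + i) (List.mem_range.2 hlt)
      rw [Bool.or_eq_true] at h
      rcases h with h | h
      · exfalso
        have := Nat.eq_of_beq_eq_true h
        exact hne ⟨by omega, by omega, by omega⟩
      · rwa [show (22 * j + i) / 22 = j by omega, show (22 * j + i) % 22 = i by omega] at h
    · have h := List.all_eq_true.1 fails1 (22 * j + i - 121) (List.mem_range.2 (by omega))
      rwa [show 121 + (22 * j + i - 121) = 22 * j + i by omega, show (22 * j + i) / 22 = j by omega,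
        show (22 * j + i) % 22 = i by omega] at h
  simp only [failsAt, Bool.or_eq_true, Bool.not_eq_true'] at hfail
  obtain ⟨G, hG⟩ : ∃ G, G = gE ^ 6 * gZ * gR * (coreG j * (aEl dFix ^ l * gD ^ k)) := ⟨_, rfl⟩
  rw [← hG] at h8 h4
  have hpow : ∀ n, sameP (List.replicate n [candL.getD j [], candR.getD i []]).flatten [] = true ↔ G ^ n = 1 := by
    intro n
    have h := eq_iff_sameP hinj (l := (List.replicate n [(candL.getD j [], gE ^ 6 * gZ * gR * coreG j),
      (candR.getD i [], aEl dFix ^ l * gD ^ k)]).flatten) (m := []) (by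
        intro p hp
        obtain ⟨q, hq, hpq⟩ := List.mem_flatten.1 hp
        rw [List.eq_of_mem_replicate hq] at hpq
        simp only [List.mem_cons, List.not_mem_nil, or_false] at hpq
        rcases hpq with rfl | rfl
        exacts [hC, hB]) (by simp)
    simp only [List.map_flatten, List.map_replicate, List.map_cons, List.map_nil, List.prod_flatten,
      List.prod_replicate, List.prod_cons, List.prod_nil, mul_one] at h
    rw [h, hG, mul_assoc (gE ^ 6 * gZ * gR)]
  rcases hfail with hf | hf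
  · rw [(hpow 8).2 h8] at hf
    exact Bool.noConfusion hf
  · exact h4 ((hpow 4).1 hf)

theorem q_spec : (gE ^ 6 * gZ * gR) ^ 8 = 1 ∧ (gE ^ 6 * gZ * gR) ^ 4 ≠ 1 := by
  have hinj := CfsgLib.Sporadic.CosetCert.J4Index.rep_injective
  obtain ⟨-, -, -, -, -, hq, -⟩ := mats_spec
  have h : ∀ n, sameP (List.replicate n qM) [] = true ↔ (gE ^ 6 * gZ * gR) ^ n = 1 := by
    intro n
    have h := eq_iff_sameP hinj (l := List.replicate n (qM, gE ^ 6 * gZ * gR)) (m := [])
      (fun p hp => by rw [List.eq_of_mem_replicate hp]; exact hq) (by simp)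
    simpa using h
  refine ⟨(h 8).1 q_facts.1, fun e => ?_⟩
  have := (h 4).2 e
  rw [q_facts.2] at this
  exact Bool.noConfusion this

theorem x_eq : wev (xER.flatMap erLet) = gX := by
  have h : ∀ a ∈ xER.flatMap erLet, a < 3 := by
    intro a ha
    obtain ⟨i, -, hai⟩ := List.mem_flatMap.1 ha
    obtain ⟨he, -, hr, -⟩ := lt_xy
    have hinv : ∀ {L : List ℕ}, (∀ a ∈ L, a < 3) → ∀ a ∈ winv L, a < 3 := fun {L} hL b hb => by
      rw [winv, List.mem_reverse, List.mem_map] at hb
      obtain ⟨c, hc, rfl⟩ := hb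
      have := hL c hc
      interval_cases c <;> decide
    rcases getD_mem_or [eW, winv eW, rW, winv rW] i [] with hm | hm
    · simp only [List.mem_cons, List.not_mem_nil, or_false] at hm
      unfold erLet at hai
      rcases hm with hm | hm | hm | hm <;> rw [hm] at hai
      exacts [he a hai, hinv he a hai, hr a hai, hinv hr a hai]
    · unfold erLet at hai
      rw [hm] at hai
      simp at hai
  have e := wev_eq_of_perm h (M := [0]) (by simp) (Nat.eq_of_beq_eq_true x_word)
  rw [e]
  simp [wev, letG]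

/-- Every automorphism is inner. -/
theorem mem_inn (α : MulAut J4P) : α ∈ Inn J4P := by
  have hinj := CfsgLib.Sporadic.CosetCert.J4Index.rep_injective
  have hc : CardJ4 := card_J4P_eq
  obtain ⟨g, hE, hZ⟩ := fix_EZ α
  obtain ⟨β, hβ⟩ : ∃ β, β = MulAut.conj g * α := ⟨_, rfl⟩
  rw [← hβ] at hE hZ
  suffices β = 1 by
    refine ⟨g⁻¹, ?_⟩
    rw [map_inv, inv_eq_iff_mul_eq_one, ← hβ, this]
  have hD : β gD = gD := by rw [← z_square hinj, map_mul, hZ]
  have hcr : Commute (gR⁻¹ * β gR) gD := by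
    have h1 : β gR * gD * (β gR)⁻¹ = gD ^ 6 := by
      have h := congrArg β rd_rel
      rwa [map_mul, map_mul, map_inv, map_pow, hD] at h
    show gR⁻¹ * β gR * gD = gD * (gR⁻¹ * β gR)
    calc gR⁻¹ * β gR * gD = gR⁻¹ * (β gR * gD * (β gR)⁻¹) * β gR := by group
      _ = gR⁻¹ * (gR * gD * gR⁻¹) * β gR := by rw [h1, rd_rel]
      _ = gD * (gR⁻¹ * β gR) := by group
  obtain ⟨j, hj, l, hl, k, hk, e⟩ := centralizer_gD hinj hc hcr
  have hq : β (gE ^ 6 * gZ * gR) = gE ^ 6 * gZ * gR * (coreG j * (aEl dFix ^ l * gD ^ k)) := by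
    rw [map_mul, map_mul, map_pow, hE, hZ, ← e, mul_assoc (gE ^ 6 * gZ) gR, mul_inv_cancel_left]
  obtain ⟨q8, q4⟩ := q_spec
  obtain ⟨rfl, rfl, rfl⟩ := cand_unique hj hl hk (by rw [← hq, ← map_pow, q8, map_one])
    (by rw [← hq, ← map_pow, Ne, MulEquiv.map_eq_one_iff]; exact q4)
  have hR : β gR = gR := by
    rw [coreG, pow_zero, pow_zero, mul_one, mul_one, inv_mul_eq_one] at e
    exact e.symm
  have her : ∀ L : List ℕ, β (wev (L.flatMap erLet)) = wev (L.flatMap erLet) := by
    intro L
    induction L with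
    | nil => exact map_one β
    | cons i t ih =>
      rw [List.flatMap_cons, wev_append, map_mul, ih]
      congr 1
      rcases getD_mem_or [eW, winv eW, rW, winv rW] i [] with hm | hm
      · simp only [List.mem_cons, List.not_mem_nil, or_false] at hm
        unfold erLet
        rcases hm with hm | hm | hm | hm <;> rw [hm]
        · exact hE
        · rw [wev_winv, map_inv]; exact congrArg (·⁻¹) hE
        · exact hR
        · rw [wev_winv, map_inv]; exact congrArg (·⁻¹) hR
      · unfold erLet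
        rw [hm, wev_nil, map_one]
  have hX : β gX = gX := by rw [← x_eq]; exact her xER
  have hY : β gY = gY := by
    have e : gE = gX * gY := by
      unfold gE eW
      simp [wev, letG]
    have h := hE
    rw [e, map_mul, hX, mul_right_inj] at h
    exact h
  have hW : β gW = gW := by
    unfold gW wW
    simp [wev, letG, hX, hY]
  obtain ⟨-, -, ht2, hwrel, hxrel, -, -⟩ := rels
  have htx : Commute gT gX := by
    show gT * gX = gX * gT
    calc gT * gX = gX * gT * (gT⁻¹ * gX⁻¹ * gT * gX) := by group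
      _ = gX * gT := by rw [hxrel, mul_one]
  have htw : Commute gT gW := by
    have e : gW = wordG [1, 0, 1, 0, 2, 0, 2, 0, 1, 0, 1, 0, 1] := by
      rw [gW, wev_wordG _ lt_xy.2.2.2]
      unfold wW
      rfl
    show gT * gW = gW * gT
    rw [e]
    calc gT * _ = wordG [1, 0, 1, 0, 2, 0, 2, 0, 1, 0, 1, 0, 1] * gT * (gT⁻¹ *
        (wordG [1, 0, 1, 0, 2, 0, 2, 0, 1, 0, 1, 0, 1])⁻¹ * gT * wordG [1, 0, 1, 0, 2, 0, 2, 0, 1, 0, 1, 0, 1]) := by
          group
      _ = _ := by rw [hwrel, mul_one]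
  have hT : β gT = gT := by
    refine (centralizer_L hinj hc (g := β gT) (by simpa [hX] using htx.map β)
      (by simpa [hW] using htw.map β)).resolve_left fun h1 => ?_
    rw [MulEquiv.map_eq_one_iff] at h1
    refine x_ne_one ?_
    have hC : ∀ h : J4P, h ∈ XY := fun h => by
      have hle : (⊤ : Subgroup J4P) ≤ XY := by
        rw [← gens_top, Subgroup.closure_le]
        rintro _ (rfl | rfl | rfl)
        · exact Subgroup.subset_closure (Or.inl rfl)
        · exact Subgroup.subset_closure (Or.inr rfl)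
        · rw [h1]; exact one_mem _
      exact hle (Subgroup.mem_top h)
    have hall : Nat.card J4P ≤ Nat.card XY :=
      Nat.card_le_card_of_injective (fun h => (⟨h, hC h⟩ : XY)) fun a b hab => congrArg Subtype.val hab
    rw [card_J4P_eq, card_XY_eq] at hall
    exact absurd hall (by norm_num)
  refine MulEquiv.toMonoidHom_injective (PresentedGroup.ext fun c => ?_)
  cases c
  · exact hX
  · exact hY
  · exact hT

theorem card_out : Nat.card (Cfsg.Out Cfsg.Spor.J4) = 1 := by
  show (Inn J4P).index = 1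
  rw [Subgroup.index_eq_one, eq_top_iff]
  exact fun α _ => mem_inn α

end CfsgLib.Sporadic.J4Aut
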