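import Mathlib.Data.Nat.Notation

/-!
# Orbit data of some subgroups of `⟨x, y⟩`
-/

set_option autoImplicit false

namespace CfsgLib.Sporadic.J4Aut

/-- Base points for the element of order 23. -/
def eBase : List ℕ := [0, 1]

/-- The points reached from them. -/
def eOrb : List (ℕ × List ℕ) := [(0, []),
  (1, []),
  (0, [0, 0, 0, 0, 0, 0, 0, 0, 0, 0, 0, 0, 0, 0, 0, 0, 0, 0, 0]),
  (0, [0, 0, 0, 0, 0, 0, 0, 0, 0, 0, 0]),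
  (0, [0, 0, 0, 0, 0, 0, 0, 0, 0, 0]),
  (0, [0, 0, 0, 0, 0, 0, 0, 0, 0, 0, 0, 0, 0, 0, 0, 0, 0, 0, 0, 0]),
  (0, [0, 0, 0, 0, 0, 0, 0, 0, 0, 0, 0, 0, 0, 0, 0, 0, 0, 0]),
  (0, [0, 0, 0, 0, 0, 0, 0, 0, 0, 0, 0, 0, 0, 0, 0]),
  (0, [0, 0]),
  (0, [0, 0, 0, 0, 0, 0, 0, 0, 0, 0, 0, 0, 0, 0]),
  (0, [0, 0, 0, 0, 0, 0, 0, 0]),
  (0, [0, 0, 0, 0, 0, 0, 0]),
  (0, [0, 0, 0, 0, 0, 0, 0, 0, 0, 0, 0, 0, 0, 0, 0, 0, 0, 0, 0, 0, 0]),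
  (0, [0, 0, 0, 0, 0, 0, 0, 0, 0, 0, 0, 0]),
  (0, [0, 0, 0]),
  (0, [0, 0, 0, 0, 0, 0, 0, 0, 0]),
  (0, [0, 0, 0, 0, 0, 0, 0, 0, 0, 0, 0, 0, 0, 0, 0, 0]),
  (0, [0, 0, 0, 0]),
  (0, [0, 0, 0, 0, 0, 0]),
  (0, [0, 0, 0, 0, 0, 0, 0, 0, 0, 0, 0, 0, 0, 0, 0, 0, 0]),
  (0, [0, 0, 0, 0, 0, 0, 0, 0, 0, 0, 0, 0, 0, 0, 0, 0, 0, 0, 0, 0, 0, 0]),
  (0, [0, 0, 0, 0, 0, 0, 0, 0, 0, 0, 0, 0, 0]),
  (0, [0, 0, 0, 0, 0]),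
  (0, [0])]

/-- Base points for the element of order 11. -/
def dBase : List ℕ := [0, 1, 3, 8]

/-- The points reached from them. -/
def dOrb : List (ℕ × List ℕ) := [(0, []),
  (1, []),
  (0, [0, 0, 0]),
  (2, []),
  (2, [0, 0]),
  (2, [0, 0, 0, 0, 0, 0, 0, 0, 0, 0]),
  (2, [0]),
  (2, [0, 0, 0, 0, 0, 0, 0, 0, 0]),
  (3, []),
  (2, [0, 0, 0, 0, 0, 0]),
  (2, [0, 0, 0, 0, 0, 0, 0]),
  (0, [0, 0, 0, 0, 0, 0]),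
  (0, [0, 0, 0, 0, 0, 0, 0, 0, 0, 0]),
  (0, [0, 0, 0, 0, 0]),
  (2, [0, 0, 0, 0, 0]),
  (0, [0, 0, 0, 0, 0, 0, 0, 0]),
  (0, [0, 0, 0, 0, 0, 0, 0]),
  (2, [0, 0, 0, 0]),
  (2, [0, 0, 0]),
  (0, [0, 0, 0, 0, 0, 0, 0, 0, 0]),
  (0, [0, 0, 0, 0]),
  (0, [0, 0]),
  (2, [0, 0, 0, 0, 0, 0, 0, 0]),
  (0, [0])]

/-- Base points for the trio stabiliser. -/
def lBase : List ℕ := [0]

/-- The points reached from them. -/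
def lOrb : List (ℕ × List ℕ) := [(0, []),
  (0, [1, 0, 1, 0, 1, 1, 0]),
  (0, [1, 1, 0, 1]),
  (0, [1, 0, 1, 0, 1]),
  (0, [1, 1]),
  (0, [0, 1, 0, 1, 0]),
  (0, [1, 1, 0, 1, 0]),
  (0, [1, 0, 1, 0]),
  (0, [0, 1, 0, 1]),
  (0, [1, 0, 1]),
  (0, [1, 1, 1, 0]),
  (0, [1, 0, 1, 0, 1, 0, 1]),
  (0, [0, 1, 0]),
  (0, [0, 1, 0, 1, 0, 1]),
  (0, [1, 0]),
  (0, [1, 1, 1]),
  (0, [1, 0, 1, 0, 1, 0]),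
  (0, [1, 1, 0]),
  (0, [1, 0, 1, 0, 1, 1]),
  (0, [1]),
  (0, [0, 1]),
  (0, [0, 1, 0, 1, 0, 1, 0]),
  (0, [1, 1, 0, 1, 0, 1]),
  (0, [0])]

/-- The action of `e` on vectors. -/
def eMap : List ℕ := [2, 32, 1, 16, 512, 809, 4, 256, 81, 2040, 128]

/-- The action of `d` on vectors. -/
def dMap : List ℕ := [2037, 1802, 1303, 371, 612, 1339, 588, 455, 349, 901, 542]

/-- The action of the second generator of the trio stabiliser on vectors. -/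
def wMap : List ℕ := [1600, 1170, 2021, 1084, 1812, 1859, 145, 631, 1397, 790, 1940]

end CfsgLib.Sporadic.J4Aut
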