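import Cfsg.Agent.Lib.Sporadic.J4Aut.PermChecks

/-!
# Cosets fixed by a subgroup of `⟨x, y⟩`
-/

set_option autoImplicit false
set_option maxRecDepth 100000

namespace CfsgLib.Sporadic.J4Aut

open Cfsg Cfsg.Spor CfsgLib.Sporadic.CosetCert.J4M24 CfsgLib.Sporadic.CosetCert.J4Index
  CfsgLib.Sporadic.J4Rep

attribute [local irreducible] wT idP pm pathsH

theorem XY_le : XY ≤ HS := XY_le_HS

/-- The coset of the subgroup. -/
noncomputable def baseC : J4P ⧸ HS := ((1 : J4P) : J4P ⧸ HS)

theorem mem_stabC {m : XY} {g : J4P} :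
    m ∈ stabC (g : J4P ⧸ HS) ↔ g⁻¹ * (m : J4P) * g ∈ HS := by
  rw [stabC, MulAction.mem_stabilizer_iff]
  show ((((m : J4P) * g : J4P)) : J4P ⧸ HS) = (g : J4P ⧸ HS) ↔ _
  rw [QuotientGroup.eq, mul_inv_rev, ← inv_mem_iff]
  simp only [mul_inv_rev, inv_inv, mul_assoc]

theorem stabC_base : stabC baseC = ⊤ := by
  rw [eq_top_iff]
  intro m _
  rw [baseC, mem_stabC, inv_one, one_mul, mul_one]
  exact XY_le m.2

theorem smul_base (a : XY) : a • baseC = baseC :=
  MulAction.mem_stabilizer_iff.1 (show a ∈ stabC baseC by rw [stabC_base]; exact Subgroup.mem_top a)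

/-- The first coset of an orbit. -/
noncomputable def node (i : Fin 20) : J4P ⧸ HS := (((gN pathsH i)⁻¹ : J4P) : J4P ⧸ HS)

theorem cosetMap_eq (i : Fin 20) (a : XY) : cosetMap ⟨i, (a : XY ⧸ nodeStab i)⟩ = a • node i := rfl

theorem stabC_node (i : Fin 20) : stabC (node i) = nodeStab i := by
  ext m
  rw [node, mem_stabC, inv_inv]
  rfl

theorem stabC_smul_card (a : XY) (c : J4P ⧸ HS) : Nat.card (stabC (a • c)) = Nat.card (stabC c) := by
  rw [stabC, MulAction.stabilizer_smul_eq_stabilizer_map_conj, stabC]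
  exact Subgroup.card_map_of_injective (f := (MulAut.conj a).toMonoidHom) (MulAut.conj a).injective

section
variable (hinj : Function.Injective rep) (hc : CardJ4)
include hinj hc

theorem node_cases (c : J4P ⧸ HS) :
    ∃ i : Fin 20, Nat.card (stabC c) = stabOrd.getD i 0 ∧ ∃ a : XY, a • node i = c := by
  obtain ⟨⟨i, q⟩, rfl⟩ := (cosetMap_facts hinj hc).1.2 c
  induction q using QuotientGroup.induction_on with
  | _ a =>
    refine ⟨i, ?_, a, rfl⟩
    rw [cosetMap_eq, stabC_smul_card, stabC_node, (cosetMap_facts hinj hc).2 i]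

theorem card_stab_node (i : Fin 20) : Nat.card (stabC (node i)) = stabOrd.getD i 0 := by
  rw [stabC_node, (cosetMap_facts hinj hc).2 i]

theorem orbit_of_card {k : ℕ} (huniq : ∀ i j : Fin 20, stabOrd.getD i 0 = k → stabOrd.getD j 0 = k → i = j)
    {c d : J4P ⧸ HS} (hcc : Nat.card (stabC c) = k) (hd : Nat.card (stabC d) = k) : ∃ a : XY, a • c = d := by
  obtain ⟨i, hi, a, rfl⟩ := node_cases hinj hc c
  obtain ⟨j, hj, b, rfl⟩ := node_cases hinj hc d
  obtain rfl := huniq i j (hi.symm.trans hcc) (hj.symm.trans hd)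
  exact ⟨b * a⁻¹, by rw [smul_smul, inv_mul_cancel_right]⟩

theorem eq_base {c : J4P ⧸ HS} (h : Nat.card (stabC c) = 244823040) : c = baseC := by
  obtain ⟨a, ha⟩ := orbit_of_card hinj hc (k := 244823040) (by decide +kernel) (c := baseC) (d := c)
    (by rw [stabC_base, Subgroup.card_top, card_XY_eq]) h
  rw [← ha, smul_base]

theorem card_of_dvd {c : J4P ⧸ HS} {p : ℕ} (hp : p ∣ Nat.card (stabC c))
    (hvals : ∀ i : Fin 20, p ∣ stabOrd.getD i 0 → stabOrd.getD i 0 = 244823040 ∨ stabOrd.getD i 0 = 253) :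
    c = baseC ∨ Nat.card (stabC c) = 253 := by
  obtain ⟨i, hi, -⟩ := node_cases hinj hc c
  rcases hvals i (hi ▸ hp) with h | h
  · exact Or.inl (eq_base hinj hc (hi.trans h))
  · exact Or.inr (hi.trans h)

/-- The coset of `t`. -/
theorem node_one : node (1 : Fin 20) = (gT : J4P ⧸ HS) := by
  have h : pathsH.getD 1 [] = [0] := by decide +kernel
  rw [node, gN, show ((1 : Fin 20) : ℕ) = 1 from rfl, h, List.map_singleton, List.prod_singleton, tP_zero, gT_inv]

theorem stabC_t : Nat.card (stabC (gT : J4P ⧸ HS)) = 64512 := by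
  rw [← node_one hinj hc, card_stab_node hinj hc]
  rfl

theorem tP_injective : ∀ p < 3795, ∀ q < 3795, tP p = tP q → p = q := by
  have hfin := finite_of_card hc
  let C : Subgroup XY := (Subgroup.centralizer {gT}).subgroupOf XY
  have hC : C ≤ stabC (gT : J4P ⧸ HS) := by
    intro m hm
    rw [mem_stabC, mul_assoc, (Subgroup.mem_centralizer_singleton_iff.1 (show (m : J4P) ∈ _ from hm)),
      inv_mul_cancel_left]
    exact XY_le m.2
  have hidx : 3795 ≤ C.index := by
    have h := C.card_mul_index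
    rw [card_XY_eq] at h
    have hle := Nat.le_of_dvd (by rw [stabC_t hinj hc]; norm_num) (Subgroup.card_dvd_of_le hC)
    rw [stabC_t hinj hc] at hle
    by_contra hlt
    have := Nat.mul_le_mul hle (show C.index ≤ 3794 by omega)
    omega
  let f : Fin 3795 → XY ⧸ C := fun p => ((⟨el (wT p), (wT_spec p p.2).1.2⟩ : XY)⁻¹ : XY)
  have hf : Function.Surjective f := by
    intro c
    induction c using QuotientGroup.induction_on with
    | _ n =>
      obtain ⟨q, hq, e⟩ := (conj_tP (inv_mem n.2)).1 0 (by norm_num)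
      refine ⟨⟨q, hq⟩, ?_⟩
      show ((⟨el (wT q), (wT_spec q hq).1.2⟩⁻¹ : XY) : XY ⧸ C) = (n : XY ⧸ C)
      rw [QuotientGroup.eq, inv_inv]
      show (el (wT q) * (n : J4P)) ∈ Subgroup.centralizer {gT}
      rw [Subgroup.mem_centralizer_singleton_iff]
      rw [tP_zero, inv_inv, tP] at e
      calc el (wT q) * (n : J4P) * gT = el (wT q) * ((n : J4P) * gT * (n : J4P)⁻¹) * n := by group
        _ = el (wT q) * ((el (wT q))⁻¹ * gT * el (wT q)) * n := by rw [e]
        _ = gT * (el (wT q) * n) := by group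
  have hb : Function.Bijective f := (Nat.bijective_iff_surjective_and_card f).2
    ⟨hf, le_antisymm (by rw [Nat.card_fin]; exact hidx) (Nat.card_le_card_of_surjective f hf)⟩
  intro p hp q hq e
  have key : f ⟨p, hp⟩ = f ⟨q, hq⟩ := by
    show ((⟨el (wT p), (wT_spec p hp).1.2⟩⁻¹ : XY) : XY ⧸ C) = ((⟨el (wT q), (wT_spec q hq).1.2⟩⁻¹ : XY) : XY ⧸ C)
    rw [QuotientGroup.eq, inv_inv]
    show el (wT p) * (el (wT q))⁻¹ ∈ Subgroup.centralizer {gT}
    rw [Subgroup.mem_centralizer_singleton_iff]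
    simp only [tP] at e
    calc el (wT p) * (el (wT q))⁻¹ * gT
        = el (wT p) * ((el (wT q))⁻¹ * gT * el (wT q)) * (el (wT q))⁻¹ := by group
      _ = el (wT p) * ((el (wT p))⁻¹ * gT * el (wT p)) * (el (wT q))⁻¹ := by rw [e]
      _ = gT * (el (wT p) * (el (wT q))⁻¹) := by group
  exact congrArg Fin.val (hb.1 key)

end

end CfsgLib.Sporadic.J4Aut
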